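import Cfsg.Agent.Omega.NO3b.Seed.Frame
import Cfsg.Agent.Omega.NO3b.Exit.MaxV

/-!
# The w.c. frame with a seed `Y`, part (v)

`Wc/Alt.lean` and `Exit/MaxV.lean` with `⟨Y^L⟩` in place of `V_L`: `Root S Y L`, `⟨Y^L⟩ ≤ O₂(C_G(Ω₁(Z(S))))`.

* `Root.good` : **(v)**: no `1 ≠ F ≤ V` is bad: `V ≤ O₂(C_G(F))`;
* `Root.low`, `Root.lines'` : `V ≤ O₂(C_G(Ω₁(Z(S))))` and helper25's `NoEmp.Lines S W^ V`;
* `VB Y B = ⟨Y^{N_G(B)}⟩`, `Adm S Y L B` : `B ≤ C_S(⟨Y^L⟩)` is admissible; `Adm.of_root`, `Adm.lines`, `exists_min`;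
* `hyp_of`, `WW_le`, `WW_not_cent`, `zc_le_of`, `off_of`, `exists_WW` : the `W_F` of `V`.
-/

set_option autoImplicit false
set_option linter.unusedSectionVars false

namespace Cfsg.Agent.Omega.NO3b.Seed

open Subgroup Cfsg
open Cfsg.Agent.ZN (o2 zc zl jj zj)
open Cfsg.Agent.ZN.ChoiceBase hiding mem_zc
open Cfsg.Agent.ZN.ChoiceSit (Syl exists_syl syl_conj o2_le_syl)
open Cfsg.Agent.Omega.NO3b.EZero (NotFF cent_symm cj_cent cj_norm cj_eq_cj_iff cl le_cl cj_le_cl cl_le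
  le_normalizer_cl)
open Cfsg.Agent.Omega.NO3b.Wc (WC StmtOff o2_inf_le)
open Cfsg.Agent.Omega.NO3b.Exit (MaxBad exists_maxBad WW_cj WW_pgroup wc_S_le)
open Cfsg.Agent.Omega.FFThm (ElemM OffM NoOverM)
open Cfsg.Agent.Omega.NOThreeL.Star (Opt Ok exists_opt)
open Cfsg.Agent.MinSimple.MinParabolic (IsMinPar)
open Cfsg.Agent.MinSimple.VModule (mem_zc le_centralizer_zc zc_sq le_normalizer_o2 o2_isPGroup le_o2 zc_comm
  normalizer_le_normalizer_zc o2_le oddGen)
open Cfsg.Agent.Omega.NOne (Flat.Hyp Flat.Bad Flat.EE Flat.WW Flat.o2_conj)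
open scoped Pointwise

universe u

variable {G : Type u} [Group G]

/-- `V_B = ⟨Y^{N_G(B)}⟩` -/
def VB (Y B : Subgroup G) : Subgroup G := cl Y (normalizer (B : Set G))

/-- `B` is admissible. -/
structure Adm [Finite G] (S : Sylow 2 G) (Y L B : Subgroup G) : Prop where
  ZY : zc (S : Subgroup G) ≤ Y
  wc : WC (S : Subgroup G) B
  le : B ≤ QL (S : Subgroup G) Y L
  cs : (S : Subgroup G) ⊓ centralizer (VB Y B : Set G) = B
  comm : VB Y B ≤ centralizer (VB Y B : Set G)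
  sq : ∀ v ∈ VB Y B, v ^ 2 = 1
  nff : NotFF (VB Y B)
  low : VB Y B ≤ o2 (centralizer (zc (S : Subgroup G) : Set G))

/-- The w.c. frame is admissible. -/
theorem Adm.of_root [Finite G] {S : Sylow 2 G} {Y L : Subgroup G} (h : Root S Y L)
    (low : VL (S : Subgroup G) Y L ≤ o2 (centralizer (zc (S : Subgroup G) : Set G))) :
    Adm S Y L (WH (S : Subgroup G) Y L) where
  ZY := h.ZY
  wc := wc_WH _ _ _
  le := WH_le _ _ _
  cs := h.cs_V
  comm := h.V_comm
  sq := h.V_sq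
  nff := h.V_nff
  low := low

namespace Adm

variable [Finite G] {S : Sylow 2 G} {Y L B : Subgroup G} (h : Adm S Y L B)
include h

theorem lines : NoEmp.Lines S B (VB Y B) where
  JS := h.wc.le
  wc := h.wc.eq
  NJ := le_normalizer_cl _ _
  JV := by
    have h1 := h.cs
    intro b hb
    rw [← h1] at hb
    exact hb.2
  comm := h.comm
  sq := h.sq
  ZV := h.ZY.trans (le_cl _ _)
  nff := h.nff
  low := h.low

end Adm

/-- a minimal admissible `B` -/
theorem exists_min [Finite G] {S : Sylow 2 G} {Y L B₀ : Subgroup G} (h : Adm S Y L B₀) :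
    ∃ B, Adm S Y L B ∧ B ≤ B₀ ∧ ∀ B', Adm S Y L B' → B' ≤ B → B' = B := by
  obtain ⟨B, hB, hmin⟩ := Set.exists_min_image {B : Subgroup G | Adm S Y L B ∧ B ≤ B₀} (fun B => Nat.card B)
    (Set.toFinite _) ⟨B₀, h, le_rfl⟩
  exact ⟨B, hB.1, hB.2, fun B' h1 h2 => eq_of_le_of_card_ge h2 (hmin B' ⟨h1, h2.trans hB.2⟩)⟩

/-! ### the w.c. frame and THEOREM FLAT -/

section root

variable [Finite G] {S : Sylow 2 G} {Y L F : Subgroup G}

/-- No offender on `⟨Y^L⟩` in module form. -/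
theorem Root.not_offM (h : Root S Y L) {A : Subgroup G} (hA : A ≤ (S : Subgroup G)) : ¬ OffM (cl Y L) A := by
  intro hoff
  have h3 := h.nff A (S.isPGroup'.to_le hA) (hA.trans (h.le.trans (le_normalizer_cl _ _))) hoff.sq hoff.comm
    hoff.ne
  exact absurd (FFThm.relIndex_le_iff.1 hoff.le) (not_le.2 h3)

theorem Root.V_two (h : Root S Y L) : IsPGroup 2 (VL (S : Subgroup G) Y L : Subgroup G) :=
  NO3b.NoEmp.pgroup_of_sq h.V_sq

/-- the hypotheses of THEOREM FLAT for a maximal bad `F ≤ V` -/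
theorem hyp_of (hG : IsCharacteristicTwoType G) (h : Root S Y L) (hF : MaxBad (VL (S : Subgroup G) Y L) F) :
    Flat.Hyp (VL (S : Subgroup G) Y L) F where
  comm := h.V_comm
  sq := h.V_sq
  syl := fun D _ hD => (h.o2_cent_le hD).trans (ML_le_norm_V _ _ _)
  noff := by
    intro A hA hc hs hne
    have h1 := h.V_nff A (NoEmp.pgroup_of_sq hs) hA (fun a ha => by rw [hs a ha]; exact one_mem _)
      (fun a ha b hb => by
        have e : a * b = b * a := (mem_centralizer_iff.1 (hc ha) b hb).symm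
        rw [e, mul_inv_cancel_right, mul_inv_cancel]; exact one_mem _) hne
    by_contra h2
    exact absurd (FFThm.relIndex_le_iff.1 (not_lt.1 h2)) (not_le.2 h1)
  char2 := NOne.LemmaT.char2_centralizer hG ((NoEmp.pgroup_of_sq h.V_sq).to_le hF.1.le) hF.1.ne
  bad := hF.1
  max := hF.2

/-- `W_F` is a 2-group in `M`. -/
theorem WW_le (h : Root S Y L) (hF : F ≤ VL (S : Subgroup G) Y L) :
    Flat.WW (VL (S : Subgroup G) Y L) F ≤ ML (S : Subgroup G) Y L :=
  Flat.Hyp.W_le_R.trans (h.o2_cent_le hF)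

/-- A group with a maximal bad `F`: `[V, W_F] ≠ 1`. -/
theorem WW_not_cent (hG : IsCharacteristicTwoType G) (h : Root S Y L) (hF : MaxBad (VL (S : Subgroup G) Y L) F) :
    ¬ Flat.WW (VL (S : Subgroup G) Y L) F ≤ centralizer (VL (S : Subgroup G) Y L : Set G) := by
  intro h0
  have h1 := (hyp_of hG h hF).cent_VW
  rw [inf_eq_left.2 (cent_symm h0)] at h1
  apply hF.1.not_le
  have h2 : VL (S : Subgroup G) Y L ≤ centralizer (F : Set G) := h.V_comm.trans (centralizer_le hF.1.le)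
  refine le_o2 h2 (NoEmp.pgroup_of_sq h.V_sq) ?_
  rw [← h1]
  exact centralizer_le_normalizer _

/-- `W_F ≤ S` implies `Z ≤ F`. -/
theorem zc_le_of (hG : IsCharacteristicTwoType G) (h : Root S Y L) (hF : MaxBad (VL (S : Subgroup G) Y L) F)
    (hS : Flat.WW (VL (S : Subgroup G) Y L) F ≤ (S : Subgroup G)) : zc (S : Subgroup G) ≤ F := by
  rw [← (hyp_of hG h hF).cent_VW]
  exact le_inf h.zc_le_V (cent_symm (hS.trans (le_centralizer_zc _)))

/-- **THEOREM OFF, Corollary A**: `W_F ≤ S` offends on every `S`-local `Y₁ ≤ V ∩ O₂(C_G(Z))` which it does not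
centralise. -/
theorem off_of (hG : IsCharacteristicTwoType G) (hOff : StmtOff G) (h : Root S Y L)
    (hF : MaxBad (VL (S : Subgroup G) Y L) F)
    (hS : Flat.WW (VL (S : Subgroup G) Y L) F ≤ (S : Subgroup G)) {Y₁ : Subgroup G}
    (hYV : Y₁ ≤ VL (S : Subgroup G) Y L) (hYZ : Y₁ ≤ o2 (centralizer (zc (S : Subgroup G) : Set G)))
    (hne : ¬ Flat.WW (VL (S : Subgroup G) Y L) F ≤ centralizer (Y₁ : Set G)) :
    OffM Y₁ (Flat.WW (VL (S : Subgroup G) Y L) F) := by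
  have hy := hyp_of hG h hF
  have hZF := zc_le_of hG h hF hS
  have hCF : centralizer (F : Set G) ≤ centralizer (zc (S : Subgroup G) : Set G) := centralizer_le hZF
  have h1 : Y₁ ≤ o2 (centralizer (F : Set G)) := by
    have h2 : o2 (centralizer (zc (S : Subgroup G) : Set G)) ⊓ centralizer (F : Set G) ≤
        o2 (centralizer (F : Set G)) := by
      refine le_o2 inf_le_right ((o2_isPGroup _).to_le inf_le_left) ?_
      intro x hx
      rw [mem_normalizer_iff_cj, cj_inf, cj_eq_of_mem_normalizer (Subgroup.le_normalizer hx),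
        cj_eq_of_mem_normalizer (le_normalizer_o2 _ (hCF hx))]
    exact (le_inf hYZ (hYV.trans (h.V_comm.trans (centralizer_le hF.1.le)))).trans h2
  have h3 := hy.off_of_le (hOff _ _ hy) (Y := Y₁) (le_inf hYV h1)
  obtain ⟨e1, e2⟩ := hy.elem_W hYV
  refine ⟨⟨fun a ha => by rw [pow_two]; exact e2 a ha, fun a ha b hb => e1 a ha b hb⟩, hne, ?_⟩
  exact FFThm.relIndex_le_iff.2 h3

/-- **PRINCIPLE for the `W_F`**: if `V ≰ O₂(C_G(Z))` then some `W_F ≤ S`, `F` maximal bad, moves `⟨Y^L⟩`. -/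
theorem exists_WW (hG : IsCharacteristicTwoType G) (hS : (S : Subgroup G) ≠ ⊥) (h : Root S Y L)
    (hV : ¬ VL (S : Subgroup G) Y L ≤ o2 (centralizer (zc (S : Subgroup G) : Set G))) :
    ∃ F, MaxBad (VL (S : Subgroup G) Y L) F ∧ Flat.WW (VL (S : Subgroup G) Y L) F ≤ (S : Subgroup G) ∧
      ¬ Flat.WW (VL (S : Subgroup G) Y L) F ≤ centralizer (cl Y L : Set G) := by
  have hb : Flat.Bad (VL (S : Subgroup G) Y L) (zc (S : Subgroup G)) :=
    ⟨MinSimple.Basic.zc_ne_bot S.isPGroup' hS, h.zc_le_V, hV⟩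
  obtain ⟨F0, hF0, -⟩ := exists_maxBad hb
  obtain ⟨n, hn, hnS⟩ := h.exists_conj_le (WW_pgroup _ F0) (WW_le h hF0.1.le)
  have hnV := ML_le_norm_V _ _ _ hn
  obtain ⟨A, ⟨F, hF, rfl⟩, hAS, hAne⟩ := h.principle
    (F := {A | ∃ F, MaxBad (VL (S : Subgroup G) Y L) F ∧ Flat.WW (VL (S : Subgroup G) Y L) F = A})
    (A := cj n (Flat.WW (VL (S : Subgroup G) Y L) F0)) (by
      rintro A ⟨F, hF, rfl⟩ m hm
      exact ⟨cj m F, hF.cj (ML_le_norm_V _ _ _ hm), WW_cj (ML_le_norm_V _ _ _ hm)⟩)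
    ⟨cj n F0, hF0.cj hnV, WW_cj hnV⟩ hnS (by
      rw [← WW_cj hnV]
      exact WW_not_cent hG h (hF0.cj hnV))
  exact ⟨F, hF, hAS, hAne⟩

end root

namespace Root

variable [Finite G] {S : Sylow 2 G} {Y L : Subgroup G} (h : Root S Y L)
include h

/-- **(v)**, BETA: there is no bad subgroup. -/
theorem not_bad (hc : IsCharacteristicTwoType G) (hoff : StmtOff G)
    (hz : cl Y L ≤ o2 (centralizer (zc (S : Subgroup G) : Set G))) (F₀ : Subgroup G) :
    ¬ Flat.Bad (VL (S : Subgroup G) Y L) F₀ := by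
  intro hF₀
  obtain ⟨F, hF, -⟩ := exists_maxBad hF₀
  obtain ⟨n, hn, hnS⟩ := h.exists_conj_le (WW_pgroup _ F) (WW_le h hF.1.le)
  have hnV := ML_le_norm_V _ _ _ hn
  obtain ⟨A, ⟨F', hF', rfl⟩, hXS, hXL⟩ := h.principle
    (F := {A | ∃ F, MaxBad (VL (S : Subgroup G) Y L) F ∧ Flat.WW (VL (S : Subgroup G) Y L) F = A})
    (A := cj n (Flat.WW (VL (S : Subgroup G) Y L) F)) (by
      rintro A ⟨F, hF, rfl⟩ m hm
      exact ⟨cj m F, hF.cj (ML_le_norm_V _ _ _ hm), WW_cj (ML_le_norm_V _ _ _ hm)⟩)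
    ⟨cj n F, hF.cj hnV, WW_cj hnV⟩ hnS (by
      rw [← WW_cj hnV]
      exact WW_not_cent hc h (hF.cj hnV))
  exact h.not_offM hXS (off_of hc hoff h hF' hXS h.cl_le_V hz hXL)

/-- **(v)** -/
theorem good (hc : IsCharacteristicTwoType G) (hoff : StmtOff G)
    (hz : cl Y L ≤ o2 (centralizer (zc (S : Subgroup G) : Set G))) {F : Subgroup G}
    (hF : F ≤ VL (S : Subgroup G) Y L) (hF1 : F ≠ ⊥) :
    VL (S : Subgroup G) Y L ≤ o2 (centralizer (F : Set G)) := by
  by_contra hcon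
  exact h.not_bad hc hoff hz F ⟨hF1, hF, hcon⟩

/-- `V ≤ O₂(C_G(Z))` -/
theorem low (hc : IsCharacteristicTwoType G) (hoff : StmtOff G)
    (hz : cl Y L ≤ o2 (centralizer (zc (S : Subgroup G) : Set G)))
    (hne : zc (S : Subgroup G) ≠ ⊥) :
    VL (S : Subgroup G) Y L ≤ o2 (centralizer (zc (S : Subgroup G) : Set G)) :=
  h.good hc hoff hz h.zc_le_V hne

/-- The frame of helper25's `NoEmp.lean`. -/
theorem lines' (hc : IsCharacteristicTwoType G) (hoff : StmtOff G)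
    (hz : cl Y L ≤ o2 (centralizer (zc (S : Subgroup G) : Set G)))
    (hne : zc (S : Subgroup G) ≠ ⊥) :
    NoEmp.Lines S (WH (S : Subgroup G) Y L) (VL (S : Subgroup G) Y L) :=
  h.lines (h.low hc hoff hz hne)

end Root

end Cfsg.Agent.Omega.NO3b.Seed
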