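import Cfsg.Agent.Omega.NO3b.Seed.Chain
import Cfsg.Agent.Omega.NO3b.Closed.Pair
import Cfsg.Agent.Omega.NO3b.Exit.LocalExit

/-!
# The chain with a seed `Y`: `(M(L), V(L))` is a pair for #19499

`Stage S Y L`, `V = V(L) = VL S Y L`, `M = M(L)`, `C = C_G(Z)`.

* `Stage.hzV` : conjugates of `V` which meet commute; `Stage.W_comm`, `Stage.W_sq` : `⟨V^C⟩` is elementary abelian;
* `Stage.flagV` : `ClosedPt.Flag S Z V`; `Stage.geoV` : `ClosedPt.Geo S Z V M` if `⟨M, C⟩` is not local;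
* `Stage.cent_le` : (ITR) `Z ≤ A ≤ V`, `S ≤ N(A)`, `C_S(A) ≤ C(V)`: then `C_G(A) ≤ C_G(V)`.
-/

set_option autoImplicit false
set_option linter.unusedSectionVars false

namespace Cfsg.Agent.Omega.NO3b.Seed

open Subgroup Cfsg
open Cfsg.Agent.ZN (o2 zc zl jj zj)
open Cfsg.Agent.ZN.ChoiceBase hiding mem_zc
open Cfsg.Agent.ZN.ChoiceSit (Syl o2_le_syl syl_not_dvd)
open Cfsg.Agent.MinSimple.EmptyTI (syl_of_le)
open Cfsg.Agent.Omega.MinPar Cfsg.Agent.Omega.Frame Cfsg.Agent.Omega.FrameNOFF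
open Cfsg.Agent.Omega.NO3b.EZero (NotFF Par cl cl_le le_cl cj_le_cl le_normalizer_cl cent_symm)
open Cfsg.Agent.Omega.NO3b.ClosedPt (Flag Clo Geo)
open Cfsg.Agent.Omega.NO3b.Chain (le_normalizer_inf le_normalizer_centralizer)
open Cfsg.Agent.MinSimple.VModule (le_centralizer_zc le_normalizer_o2 mem_zc)

universe u

variable {G : Type u} [Group G] [Finite G] {S : Sylow 2 G} {Y L : Subgroup G}

section

variable (h : Stage S Y L) (hc : IsCharacteristicTwoType G) (hne : zc (S : Subgroup G) ≠ ⊥)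
include h hc hne

/-- conjugates of `V(L)` which meet commute -/
theorem Stage.hzV (a b : G) (hab : cj a (VL (S : Subgroup G) Y L) ⊓ cj b (VL (S : Subgroup G) Y L) ≠ ⊥) :
    cj a (VL (S : Subgroup G) Y L) ≤ centralizer ((cj b (VL (S : Subgroup G) Y L) : Subgroup G) : Set G) :=
  (h.lines hc hne).comm_of_inter ((h.lines hc hne).char2 hc) hab

/-- `V(L) ≤ O₂(C_G(Z))` -/
theorem Stage.geo_low_V : VL (S : Subgroup G) Y L ≤ o2 (centralizer (zc (S : Subgroup G) : Set G)) :=
  h.toRoot.low hc (Final.stmtOff G) h.low hne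

/-- `⟨V^{C_G(Z)}⟩ ≤ O₂(C_G(Z))` -/
theorem Stage.W_le : cl (VL (S : Subgroup G) Y L) (centralizer (zc (S : Subgroup G) : Set G)) ≤
    o2 (centralizer (zc (S : Subgroup G) : Set G)) := cl_le fun x hx => by
  have h1 := cj_mono x (h.geo_low_V hc hne)
  rwa [cj_eq_of_mem_normalizer (le_normalizer_o2 _ hx)] at h1

/-- `⟨V^{C_G(Z)}⟩` is abelian -/
theorem Stage.W_comm : cl (VL (S : Subgroup G) Y L) (centralizer (zc (S : Subgroup G) : Set G)) ≤
    centralizer (cl (VL (S : Subgroup G) Y L) (centralizer (zc (S : Subgroup G) : Set G)) : Set G) := by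
  have key : ∀ c ∈ centralizer (zc (S : Subgroup G) : Set G), zc (S : Subgroup G) ≤ cj c (VL (S : Subgroup G) Y L) := by
    intro c hcc z hz
    rw [mem_cj]
    have h1 := mem_centralizer_iff.1 hcc z hz
    have e : c⁻¹ * z * c = z := by rw [mul_assoc, h1]; group
    rw [e]
    exact h.zc_le_V hz
  refine cl_le fun a ha => cent_symm (cl_le fun b hb => ?_)
  refine h.hzV hc hne b a fun h0 => hne ?_
  rw [eq_bot_iff, ← h0]
  exact le_inf (key b hb) (key a ha)

theorem Stage.W_sq : ∀ a ∈ cl (VL (S : Subgroup G) Y L) (centralizer (zc (S : Subgroup G) : Set G)), a ^ 2 = 1 := by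
  have hcomm : ∀ a ∈ cl (VL (S : Subgroup G) Y L) (centralizer (zc (S : Subgroup G) : Set G)),
      ∀ b ∈ cl (VL (S : Subgroup G) Y L) (centralizer (zc (S : Subgroup G) : Set G)), a * b = b * a :=
    fun a ha b hb => mem_centralizer_iff.1 (h.W_comm hc hne hb) a ha
  let K : Subgroup G :=
    { carrier := {a | a ∈ cl (VL (S : Subgroup G) Y L) (centralizer (zc (S : Subgroup G) : Set G)) ∧ a ^ 2 = 1}
      one_mem' := ⟨one_mem _, one_pow _⟩
      mul_mem' := fun {a b} ha hb => ⟨mul_mem ha.1 hb.1, by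
        rw [(show Commute a b from hcomm a ha.1 b hb.1).mul_pow, ha.2, hb.2, one_mul]⟩
      inv_mem' := fun {a} ha => ⟨inv_mem ha.1, by rw [inv_pow, ha.2, inv_one]⟩ }
  have h1 : cl (VL (S : Subgroup G) Y L) (centralizer (zc (S : Subgroup G) : Set G)) ≤ K := cl_le fun x hx y hy =>
    ⟨cj_le_cl hx hy, by
      have h2 := h.V_sq _ (mem_cj.1 hy)
      have e : y = x * (x⁻¹ * y * x) * x⁻¹ := by group
      rw [e, conj_pow, h2, mul_one, mul_inv_cancel]⟩
  exact fun a ha => (h1 ha).2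

/-- `C_W(S) = Z`, `W = ⟨V^{C_G(Z)}⟩` -/
theorem Stage.W_fix {w : G} (hw : w ∈ cl (VL (S : Subgroup G) Y L) (centralizer (zc (S : Subgroup G) : Set G)))
    (hS : ∀ s ∈ (S : Subgroup G), s * w = w * s) : w ∈ zc (S : Subgroup G) :=
  mem_zc.2 ⟨((h.W_le hc hne).trans (o2_le_syl (syl_of_le (le_centralizer_zc _)))) hw, fun s hs => hS s hs,
    h.W_sq hc hne w hw⟩

theorem Stage.flagV : Flag (S : Subgroup G) (zc (S : Subgroup G)) (VL (S : Subgroup G) Y L) :=
  Flag.of_fix (syl_of_le (le_centralizer_zc _)) h.zc_le_V (h.S_le.trans (ML_le_norm_V _ _ _)) (h.geo_low_V hc hne)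
    (h.W_comm hc hne) (fun v hv => by rw [← pow_two]; exact h.V_sq v hv)
    (fun _ hw hS _ => h.W_fix hc hne hw hS)

/-- **`(M(L), V(L))` is a pair for #19499.** -/
theorem Stage.geoV (hn : NonLoc (ML (S : Subgroup G) Y L) (CZ (S : Subgroup G))) :
    Geo (S : Subgroup G) (zc (S : Subgroup G)) (VL (S : Subgroup G) Y L) (ML (S : Subgroup G) Y L) where
  flag := h.flagV hc hne
  ne := hne
  norm := ML_le_norm_V _ _ _
  hz := h.hzV hc hne
  nonloc := hn

/-- **(0), ITR on an `S`-invariant subgroup**: `Z ≤ A ≤ V(L)`, `C_S(A) ≤ C(V)`: then `C_G(A) ≤ C_G(V)`. -/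
theorem Stage.cent_le {A : Subgroup G} (hZA : zc (S : Subgroup G) ≤ A) (hSA : (S : Subgroup G) ≤ normalizer (A : Set G))
    (hcs : (S : Subgroup G) ⊓ centralizer (A : Set G) ≤ centralizer (VL (S : Subgroup G) Y L : Set G)) :
    centralizer (A : Set G) ≤ centralizer (VL (S : Subgroup G) Y L : Set G) := by
  have hCZ : centralizer (A : Set G) ≤ centralizer (zc (S : Subgroup G) : Set G) := centralizer_le hZA
  have hWn : centralizer (zc (S : Subgroup G) : Set G) ≤
      normalizer (cl (VL (S : Subgroup G) Y L) (centralizer (zc (S : Subgroup G) : Set G)) : Set G) :=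
    le_normalizer_cl _ _
  have key := ClosedPt.trace (W := cl (VL (S : Subgroup G) Y L) (centralizer (zc (S : Subgroup G) : Set G)))
    (X := centralizer (A : Set G)) (T := (S : Subgroup G))
    (fun a ha b hb => mem_centralizer_iff.1 (h.W_comm hc hne hb) a ha)
    (fun a ha => by rw [← pow_two]; exact h.W_sq hc hne a ha) (hCZ.trans hWn) S.isPGroup'
    ((le_centralizer_zc _).trans hWn) (le_normalizer_centralizer hSA) (syl_not_dvd (Exit.syl_cs hSA))
    (fun w hw hf x hx => (mem_centralizer_iff.1 (hCZ hx) w (h.W_fix hc hne hw hf)).symm)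
  intro x hx
  rw [mem_centralizer_iff]
  intro v hv
  exact (key v (le_cl _ _ hv) (fun t ht => (mem_centralizer_iff.1 (hcs ht) v hv).symm) x hx).symm

end

end Cfsg.Agent.Omega.NO3b.Seed
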