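import Cfsg.Agent.Omega.NO3b.Seed.Red
import Cfsg.Agent.Omega.NO3b.Seed.LemT
import Cfsg.Agent.Omega.NO3b.Seed.ToGeo
import Cfsg.Agent.Omega.NO3S.Level.Cut

/-!
# The case (G) of the cut of GammaFF: the chain from `X₀ = Ω₁(Z(O₂(P)))` (#20856 (0), (1))

`CaseG S P` (`NO3S/Level/Cut.lean`), `Q = O₂(P)`, `Y = X₀ = Ω₁(Z(Q))`, `M₀ = N_G(Q)`.

* `CaseG.seed`, `CaseG.stage` : `Seed S Y P`, `Stage S Y P`; `CaseG.WH_eq`, `ML_eq`, `VL_eq` : `W(P) = Q`,
  `M(P) = M₀`, `V(P) = X₀`;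
* `CaseG.core`, `CaseG.par_le` : the hypotheses of `Seed/Red.lean` along the chain; `CaseG.red`;
* `CaseG.cs_zl` : `C_S(V_P) = Q` centralises `X₀` (hypothesis of `oddGen_le_of_not`);
* `CaseG.cent_eq` : (0) `C_G(V_P) = C_G(X₀)`;
* `CaseG.geo` : `ClosedPt.Geo S Z X₀ M₀`;
* `CaseG.exists_last` : the last member of the chain: every panel over `Z` has `⟨X₀^H⟩` FF or not in `O₂(C_G(Z))`.
-/

set_option autoImplicit false
set_option linter.unusedSectionVars false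

namespace Cfsg.Agent.Omega.NO3S.Level

open Subgroup Cfsg Cfsg.Agent.ZN Cfsg.Agent.ZN.ChoiceBase Cfsg.Agent.Omega.MinPar Cfsg.Agent.Omega.Frame
open Cfsg.Agent.Omega.FrameNOFF (CZ)
open Cfsg.Agent.Omega.FFThm (OffM ElemM NoOverM)
open Cfsg.Agent.Omega.NO3b.EZero (cl le_cl cj_le_cl cl_le le_normalizer_cl cent_symm)
open Cfsg.Agent.Omega.NO3b.Wc (WC)
open Cfsg.Agent.Omega.NO3b

universe u

variable {G : Type u} [Group G] [Finite G] {S : Sylow 2 G} {P L : Subgroup G}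

namespace CaseG

variable (h : CaseG S P)
include h

theorem seed : Seed.Seed S (zc (o2 P)) P := Seed.seed_of h.ctx.char2 h.pss.par.isLoc

theorem cl_eq : cl (zc (o2 P)) P = zc (o2 P) :=
  Seed.cl_eq ((MinSimple.VModule.le_normalizer_o2 P).trans (MinSimple.VModule.normalizer_le_normalizer_zc _))

/-- `C_S(X₀) = Q` -/
theorem cs : (S : Subgroup G) ⊓ centralizer (zc (o2 P) : Set G) = o2 P := by
  have h1 := cs_X0 h.ctx.char2 h.hj
  rwa [h.X0_eq, h.K0_eq] at h1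

theorem nffY : EZero.NotFF (zc (o2 P)) := by
  have h1 := h.toW0.nff
  rwa [h.X0_eq] at h1

theorem stage : Seed.Stage S (zc (o2 P)) P where
  le := h.pss.par.isLoc.le
  ZY := h.seed.ZY
  comm := by rw [h.cl_eq, ← h.X0_eq]; exact X0_comm _
  sq := by rw [h.cl_eq, ← h.X0_eq]; exact X0_sq _
  nff := by rw [h.cl_eq]; exact h.nffY
  cs := by rw [h.cl_eq, h.cs]; exact MinSimple.VModule.le_normalizer_o2 P
  low := by rw [h.cl_eq]; exact h.linesG.low

theorem QL_eq : Seed.QL (S : Subgroup G) (zc (o2 P)) P = o2 P := by rw [Seed.QL, h.cl_eq, h.cs]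

theorem WH_eq : Seed.WH (S : Subgroup G) (zc (o2 P)) P = o2 P := by
  rw [Seed.Root.WH_eq (by rw [h.QL_eq]; exact h.wc), h.QL_eq]

theorem ML_eq : Seed.ML (S : Subgroup G) (zc (o2 P)) P = M0 (S : Subgroup G) := by
  rw [Seed.ML, h.WH_eq, h.M0_eq]

theorem VL_eq : Seed.VL (S : Subgroup G) (zc (o2 P)) P = zc (o2 P) := by
  rw [Seed.VL, Seed.ML, h.WH_eq]
  exact Seed.cl_eq (MinSimple.VModule.normalizer_le_normalizer_zc _)

/-- Weakly closed subgroups of `S` in all `O₂(P')` centralise `X₀`. -/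
theorem core : Seed.Core (S : Subgroup G) (zc (o2 P)) := fun K hK hK2 => by
  have h1 := le_K0 hK hK2
  rw [h.K0_eq] at h1
  exact h1.trans (MinSimple.VModule.le_centralizer_zc _)

variable (r : Seed.Reach S (zc (o2 P)) P L)

theorem M0_le (r : Seed.Reach S (zc (o2 P)) P L) :
    M0 (S : Subgroup G) ≤ Seed.ML (S : Subgroup G) (zc (o2 P)) L := by
  rw [← h.ML_eq]
  exact r.ML_le h.ctx.char2 h.zc_ne h.stage

/-- `P*(S) ⊆ M(L)` -/
theorem par_le (r : Seed.Reach S (zc (o2 P)) P L) (R : Subgroup G) (hR : IsParS (S : Subgroup G) R) :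
    R ≤ Seed.ML (S : Subgroup G) (zc (o2 P)) L := (Level.par_le hR).trans (h.M0_le r)

/-- **(RED)** -/
theorem red {U H : Subgroup G} (hN : H ≤ normalizer (U : Set G)) (hU : U ≤ centralizer (U : Set G))
    (r : Seed.Reach S (zc (o2 P)) P L) (hM : Seed.ML (S : Subgroup G) (zc (o2 P)) L ≤ H)
    (hVU : Seed.VL (S : Subgroup G) (zc (o2 P)) L ≤ U) :
    Exit.TDat.Red (FFBr.im hN (Seed.ML (S : Subgroup G) (zc (o2 P)) L))
      (Exit.Bridge.ad hU (Seed.VL (S : Subgroup G) (zc (o2 P)) L)) :=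
  Seed.red hN hU (r.stage h.ctx.char2 h.zc_ne h.stage).toRoot h.ctx.char2 h.core (h.par_le r) hM hVU

/-- `C_S(V_P) = Q` -/
theorem cs_zl : (S : Subgroup G) ⊓ centralizer (zl (S : Subgroup G) P : Set G) = o2 P :=
  IsParS.inf_centralizer S h.ctx.char2 h.pss.par

theorem cs_zl_le : (S : Subgroup G) ⊓ centralizer (zl (S : Subgroup G) P : Set G) ≤
    centralizer (cl (zc (o2 P)) P : Set G) := by
  rw [h.cs_zl, h.cl_eq]
  exact MinSimple.VModule.le_centralizer_zc _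

theorem zl_le : zl (S : Subgroup G) P ≤ zc (o2 P) := h.lt.le

/-- **(0)** `C_G(V_P) = C_G(X₀)` -/
theorem cent_eq : centralizer (zl (S : Subgroup G) P : Set G) = centralizer (zc (o2 P) : Set G) := by
  refine le_antisymm ?_ (centralizer_le h.zl_le)
  have h1 := h.stage.cent_le h.ctx.char2 h.zc_ne (A := zl (S : Subgroup G) P) (MinSimple.VModule.zc_le_zl _ _)
    (h.pss.par.isLoc.le.trans (MinSimple.VModule.le_normalizer_zl _ _)) (by
      rw [h.cs_zl, h.VL_eq]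
      exact MinSimple.VModule.le_centralizer_zc _)
  rwa [h.VL_eq] at h1

/-- `N_G(V_P) ≤ N_G(X₀)` -/
theorem norm_zl_le : normalizer (zl (S : Subgroup G) P : Set G) ≤ normalizer (zc (o2 P) : Set G) := by
  intro n hn
  have hSV : (S : Subgroup G) ≤ normalizer (zl (S : Subgroup G) P : Set G) :=
    h.pss.par.isLoc.le.trans (MinSimple.VModule.le_normalizer_zl _ _)
  obtain ⟨c, hc, hcn⟩ := Exit.frattini hSV hn
  rw [h.cs_zl] at hcn
  rw [h.cent_eq] at hc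
  have h1 : c⁻¹ * n ∈ normalizer (zc (o2 P) : Set G) := MinSimple.VModule.normalizer_le_normalizer_zc _ hcn
  have h2 := mul_mem (centralizer_le_normalizer _ hc) h1
  rwa [mul_inv_cancel_left] at h2

/-- `(M₀, X₀)` is a pair for #19499. -/
theorem geo : ClosedPt.Geo (S : Subgroup G) (zc (S : Subgroup G)) (zc (o2 P)) (M0 (S : Subgroup G)) := by
  have h1 := h.stage.geoV h.ctx.char2 h.zc_ne (by rw [h.ML_eq]; exact h.nonLoc_M0)
  rwa [h.VL_eq, h.ML_eq] at h1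

/-- `⟨M(L), C_G(Z)⟩` is not local -/
theorem nonLoc (r : Seed.Reach S (zc (o2 P)) P L) :
    NonLoc (Seed.ML (S : Subgroup G) (zc (o2 P)) L) (CZ (S : Subgroup G)) :=
  fun U hU h1 h2 => h.nonLoc_M0 U hU ((h.M0_le r).trans h1) h2

/-- `(M(L), V(L))` is a pair for #19499. -/
theorem geo_of (r : Seed.Reach S (zc (o2 P)) P L) : ClosedPt.Geo (S : Subgroup G) (zc (S : Subgroup G))
    (Seed.VL (S : Subgroup G) (zc (o2 P)) L) (Seed.ML (S : Subgroup G) (zc (o2 P)) L) :=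
  (r.stage h.ctx.char2 h.zc_ne h.stage).geoV h.ctx.char2 h.zc_ne (h.nonLoc r)

/-- **The last member of the chain**: there are panels over `Z`; for each of them `⟨X₀^H⟩` is FF, or is not in
`O₂(C_G(Z))`. -/
theorem exists_last : ∃ L, Seed.Reach S (zc (o2 P)) P L ∧ Seed.Stage S (zc (o2 P)) L ∧
    Seed.Seed S (zc (o2 P)) L ∧ (∀ F T X, ¬ Seed.Step S (zc (o2 P)) L F T X) ∧
    (∃ F T X, Alpha.Fl S (Seed.VL (S : Subgroup G) (zc (o2 P)) L) F T ∧ zc (S : Subgroup G) ≤ F ∧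
      EZero.Par (Seed.VL (S : Subgroup G) (zc (o2 P)) L) F T X) ∧
    ∀ F T X, Alpha.Fl S (Seed.VL (S : Subgroup G) (zc (o2 P)) L) F T → zc (S : Subgroup G) ≤ F →
      EZero.Par (Seed.VL (S : Subgroup G) (zc (o2 P)) L) F T X →
      ¬ EZero.NotFF (cl (zc (o2 P)) (Seed.nx (S : Subgroup G) (zc (o2 P)) L X)) ∨
      ¬ cl (zc (o2 P)) (Seed.nx (S : Subgroup G) (zc (o2 P)) L X) ≤ o2 (centralizer (zc (S : Subgroup G) : Set G)) := by
  obtain ⟨L, r, hl⟩ := Seed.exists_last h.ctx.char2 h.zc_ne h.stage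
  have hs := r.stage h.ctx.char2 h.zc_ne h.stage
  have hsd := r.seed h.ctx.char2 h.zc_ne h.stage h.seed
  have hPL := r.le h.ctx.char2 h.zc_ne h.stage
  exact ⟨L, r, hs, hsd, hl, hs.exists_panel h.ctx.char2 h.zc_ne (hs.toRoot.nle hPL h.pss.nonLoc h.zc_ne),
    fun F T X f hZ p => Seed.last_or h.ctx.char2 h.zc_ne hsd hs hl f hZ p⟩

end CaseG

end Cfsg.Agent.Omega.NO3S.Level
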