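import Cfsg.Agent.Omega.NO3b.Seed.EndG
import Cfsg.Agent.Omega.NO3b.EndX.Done

/-!
# GammaFF, the case (G) = (S4): `GamG K`

* `gamG_of_absP` : from (ML) and `AbsP`;
* `gamG : GamG K`.
-/

set_option autoImplicit false

namespace Cfsg.Agent.Omega.NO3S.Level

open Subgroup Cfsg Cfsg.Agent.Omega.Frame
open Cfsg.Agent.Omega.ML.Final (MLK)
open Cfsg.Agent.Omega.NO3b
open Cfsg.Agent.Omega.NO3b.EndX (AbsP absP)

universe u

/-- `GamG K` from (ML) and `AbsP`. -/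
theorem gamG_of_absP {K : Cls.{u}} (ml : MLK.{u, u}) (hE : AbsP.{u, u}) : GamG K := by
  intro G _ _ _ S P h
  obtain ⟨S₁, Z₁, V₁, Lam, hb⟩ := h.exists_baseFlag
  exact (ExEnd.baseFlag_false h.ctx ml hE hb).elim

/-- **`GamG K`** -/
theorem gamG {K : Cls.{u}} : GamG K := gamG_of_absP ML.KnownAll.mlk absP

end Cfsg.Agent.Omega.NO3S.Level
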