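import Cfsg.Agent.Omega.NO3b.Seed.Done

/-!
# The case (G) of the cut of GammaFF from (ML) and `AbsP`: see `Seed/Done.lean`
-/
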