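import Cfsg.Agent.Omega.NO3b.Seed.Max
import Cfsg.Agent.Omega.NO3b.Seed.CaseG

/-!
# The maximal admissible frame for the case (G) of the cut of GammaFF

`CaseG S P`, `Q = O₂(P)`, `X₀ = Ω₁(Z(Q))`, `M₀ = N_G(Q) ≥ P'` for all `P' ∈ P*(S)`.

* `CaseG.stage_M0`, `CaseG.seed_M0` : `Stage S X₀ M₀`, `Seed S X₀ M₀`;
* `CaseG.exists_locY` : `LocY S X₀ M₀ B` for some `B` (`Seed/Max.lean`).
-/

set_option autoImplicit false
set_option linter.unusedSectionVars false

namespace Cfsg.Agent.Omega.NO3S.Level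

open Subgroup Cfsg Cfsg.Agent.ZN Cfsg.Agent.ZN.ChoiceBase Cfsg.Agent.Omega.MinPar Cfsg.Agent.Omega.Frame
open Cfsg.Agent.Omega.FrameNOFF (CZ)
open Cfsg.Agent.Omega.NO3b.EZero (cl le_cl cj_le_cl cl_le le_normalizer_cl cent_symm)
open Cfsg.Agent.Omega.NO3b

universe u

variable {G : Type u} [Group G] [Finite G] {S : Sylow 2 G} {P : Subgroup G}

namespace CaseG

variable (h : CaseG S P)
include h

theorem cl_M0 : cl (zc (o2 P)) (M0 (S : Subgroup G)) = zc (o2 P) := by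
  rw [h.M0_eq]
  exact Seed.cl_eq (MinSimple.VModule.normalizer_le_normalizer_zc _)

/-- `Stage S X₀ M₀` -/
theorem stage_M0 : Seed.Stage S (zc (o2 P)) (M0 (S : Subgroup G)) where
  le := h.pss.par.isLoc.le.trans (Level.par_le h.pss.par)
  ZY := h.seed.ZY
  comm := by rw [h.cl_M0, ← h.X0_eq]; exact X0_comm _
  sq := by rw [h.cl_M0, ← h.X0_eq]; exact X0_sq _
  nff := by rw [h.cl_M0]; exact h.nffY
  cs := by rw [h.cl_M0, h.cs, h.M0_eq]
  low := by rw [h.cl_M0]; exact h.linesG.low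

theorem seed_M0 : Seed.Seed S (zc (o2 P)) (M0 (S : Subgroup G)) := h.seed.mono (Level.par_le h.pss.par)

/-- **The maximal admissible frame** of the case (G). -/
theorem exists_locY : ∃ B, Seed.LocY S (zc (o2 P)) (M0 (S : Subgroup G)) B :=
  Seed.exists_locY h.ctx.char2 h.zc_ne h.stage_M0 h.seed_M0

end CaseG

end Cfsg.Agent.Omega.NO3S.Level
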