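import Cfsg.Agent.Omega.NO3b.Seed.FamG
import Cfsg.Agent.Omega.NO3b.Seed.MaxG
import Cfsg.Agent.Omega.NO3b.BasePt.EndFam
import Cfsg.Agent.Omega.NO3S.Level.Gamma

/-!
# GammaFF, the case (G) = (S4) (#20856 (2)): the end

`CaseG S P`, `LocY S X₀ M₀ B` (`Seed/MaxG.lean`), the blocks of `V = VB X₀ B` (`Seed/FamG.lean`), the base point over
`M = P` (`BasePt/EndFam.lean`).

* `CaseG.exists_baseFlag` : there is a base flag;
* `CaseG.false_of` : (ML) and the exact end refute the case (G); `gamG_of` : `GamG K`.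
-/

set_option autoImplicit false

namespace Cfsg.Agent.Omega.NO3S.Level

open Subgroup Cfsg Cfsg.Agent.ZN Cfsg.Agent.ZN.ChoiceBase Cfsg.Agent.Omega.MinPar Cfsg.Agent.Omega.Frame
open Cfsg.Agent.Omega.ML.Final (MLK)
open Cfsg.Agent.Omega.NO3b
open Cfsg.Agent.Omega.NO3b.BasePt (BaseFlag ExactEndS baseFlag_of_fam)
open Cfsg.Agent.Omega.NO3b.EZero (le_normalizer_cl)

universe u

/-- **The base flag in the case (G).** -/
theorem CaseG.exists_baseFlag {G : Type u} [Group G] [Finite G] {S : Sylow 2 G} {P : Subgroup G} (h : CaseG S P) :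
    ∃ S₁ Z₁ V₁ Lam : Subgroup G, BaseFlag S₁ Z₁ V₁ Lam := by
  obtain ⟨B, g⟩ := h.exists_locY
  have hG := h.ctx.char2
  have hSne := h.ctx.sylow_ne_bot S
  obtain ⟨𝒴, Fa, gas, fl⟩ := g.exists_fam hG h.zc_ne h.core (fun R hR => Level.par_le hR)
    (N := normalizer (B : Set G)) (le_normalizer_cl _ _) g.adm.comm le_rfl
  exact ⟨_, _, _, _, baseFlag_of_fam g.adm.lines le_rfl Fa gas fl g.adm.cs
    (fun _ _ p => p.exists_optY g.oz hG (Final.stmtOff G) hSne) hG hSne (M := P)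
    ((Level.par_le h.pss.par).trans g.le) (le_sSup ⟨h.pss.par, le_rfl⟩) h.pss.nonLoc⟩

/-- **The case (G) does not occur.** -/
theorem CaseG.false_of {G : Type u} [Group G] [Finite G] {S : Sylow 2 G} {P : Subgroup G} (h : CaseG S P)
    (ml : MLK.{u, u}) (hE : ExactEndS.{u}) : False := by
  obtain ⟨S₁, Z₁, V₁, Lam, hb⟩ := h.exists_baseFlag
  exact hb.false_of h.ctx ml hE

/-- **`GamG K`** = (S4). -/
theorem gamG_of {K : Cls.{u}} (ml : MLK.{u, u}) (hE : ExactEndS.{u}) : GamG K :=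
  fun _ _ _ _ _ _ h => (h.false_of ml hE).elim

end Cfsg.Agent.Omega.NO3S.Level
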