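import Cfsg.Agent.Omega.NO3b.Seed.GamJ
import Cfsg.Agent.Omega.NO3b.Seed.Two
import Cfsg.Agent.Omega.NO3b.BetaTwo.FamMain
import Cfsg.Agent.Omega.NO3b.Exit.AllLocal

/-!
# THEOREM BETA2 for a family of panels, with a seed `Y` (#21336 (A), #20856 (2))

`BetaTwo/FamAdm.lean`, `BetaTwo/FamMain.lean` with `⟨Y^J⟩ = cl Y J` in place of `V_J`: `B` admissible
(`Adm S Y L B`), `V = VB Y B`, `(F i, T i, X i)` panels of `V` with two noncentral factors, `J = JB B X =
⟨N_G(B), X i⟩` 2-local, `Y ≤ Ω₁(Z(O₂(J)))`, `V'_J = VL S Y (LH S Y J)`: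

* `good_adm` : `V ≤ O₂(C_G(D))` for `1 ≠ D ≤ V` (from TI);
* `exists_btF_adm`, `fam_adm` : `⟨Y^J⟩` not FF: `V'_J ≤ O₂(C_G(Z))`;
* `closed_adm` : `V'_J ≤ O₂(C_G(Z))` gives an admissible `B' < B`;
* `ff_adm` : `B` minimal admissible: `⟨Y^J⟩` is FF.
-/

set_option autoImplicit false
set_option linter.unusedSectionVars false

namespace Cfsg.Agent.Omega.NO3b.Seed

open Subgroup Cfsg
open Cfsg.Agent.ZN (o2 zc zl)
open Cfsg.Agent.ZN.ChoiceBase hiding mem_zc
open Cfsg.Agent.ZN.ChoiceSit (o2_le_syl)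
open Cfsg.Agent.Omega.NO3b.EZero (NotFF Par cent_symm cj_cent cl le_cl cj_le_cl cl_le le_normalizer_cl)
open Cfsg.Agent.Omega.NO3b.Alpha (Fl)
open Cfsg.Agent.Omega.NO3b.Wc (WC StmtOff cj_sSup)
open Cfsg.Agent.Omega.NO3b.Exit (MaxBad WW_cj WW_pgroup wc_S_le pan char2_of_loc sm)
open Cfsg.Agent.Omega.NO3b.BetaTwo (JB NB_le_JB X_le_JB BtF noOver_of)
open Cfsg.Agent.Omega.NO3b.K0.Mix (Pan SM Two)
open Cfsg.Agent.Omega.NOne.Flat (EE WW NN)
open Cfsg.Agent.MinSimple.VModule (le_normalizer_o2 le_o2 mem_normalizer_of_map_le)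

universe u v

variable {G : Type u} [Group G] [Finite G] {S : Sylow 2 G} {Y L B : Subgroup G} {ι : Type v}
  {F T X : ι → Subgroup G}

/-- `V ≤ O₂(C_G(D))` for `1 ≠ D ≤ V` -/
theorem good_adm (a : Adm S Y L B) (hc : IsCharacteristicTwoType G) {D : Subgroup G}
    (hD : D ≤ VB Y B) (hD1 : D ≠ ⊥) : VB Y B ≤ o2 (centralizer (D : Set G)) := by
  set V := VB Y B with hV
  have l := a.lines
  have hVD : ∀ y ∈ centralizer (D : Set G), D ≤ cj y V := by
    intro y hy d hd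
    have h1 := mem_centralizer_iff.1 hy d hd
    rw [mem_cj, mul_assoc, h1, inv_mul_cancel_left]
    exact hD hd
  have hcm : ∀ y ∈ centralizer (D : Set G), ∀ z ∈ centralizer (D : Set G),
      cj y V ≤ centralizer ((cj z V : Subgroup G) : Set G) := by
    intro y hy z hz
    have h1 := Alpha.ti hc l (y⁻¹ * z) (by
      intro h0
      apply hD1
      rw [← le_bot_iff, ← h0]
      exact le_inf hD (hVD _ (mul_mem (inv_mem hy) hz)))
    have h2 := cj_cent (g := y) h1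
    rwa [cj_cj, mul_inv_cancel_left] at h2
  have hUc : cl V (centralizer (D : Set G)) ≤ centralizer (cl V (centralizer (D : Set G)) : Set G) :=
    cl_le fun _ hy => cent_symm (cl_le fun _ hz => hcm _ hz _ hy)
  have hsq : ∀ u ∈ cl V (centralizer (D : Set G)), u ^ 2 = 1 := by
    refine EZero.sq_of_comm hUc (fun i : centralizer (D : Set G) => cj_le_cl i.2) le_rfl fun i v hv => ?_
    have h1 := l.sq _ (mem_cj.1 hv)
    have e : v ^ 2 = i * ((i : G)⁻¹ * v * i) ^ 2 * (i : G)⁻¹ := by rw [pow_two, pow_two]; group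
    rw [e, h1]; group
  have hle : cl V (centralizer (D : Set G)) ≤ centralizer (D : Set G) := by
    refine cl_le fun y hy => ?_
    have h1 : V ≤ centralizer (D : Set G) := l.comm.trans (centralizer_le hD)
    have h2 := cj_mono y h1
    rwa [K0.cj_self hy] at h2
  exact (le_cl V _).trans (le_o2 hle (NoEmp.pgroup_of_sq hsq) (le_normalizer_cl _ _))

theorem good_adm_cj (a : Adm S Y L B) (hc : IsCharacteristicTwoType G) (g : G) (D : Subgroup G)
    (hD : D ≤ cj g (VB Y B)) (hD1 : D ≠ ⊥) : cj g (VB Y B) ≤ o2 (centralizer (D : Set G)) := by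
  have h1 := good_adm a hc (D := cj g⁻¹ D) (by
    have h1 := cj_mono g⁻¹ hD
    rwa [cj_inv_cj] at h1) (fun h0 => hD1 (by
    have h1 := congrArg (cj g) h0
    rwa [cj_cj_inv, K0.cj_bot'] at h1))
  have h2 := cj_mono g h1
  rwa [← Cfsg.Agent.ZN.ChoiceBase.pCore_cj, cj_centralizer, cj_cj_inv] at h2

section

variable (a : Adm S Y L B) (hc : IsCharacteristicTwoType G)
  (f : ∀ i, Fl S (VB Y B) (F i) (T i))
  (p : ∀ i, Par (VB Y B) (F i) (T i) (X i))
  (hYz : Y ≤ zc (o2 (JB B X)))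
  (hloc : ∃ R : Subgroup G, R ≠ ⊥ ∧ IsPGroup 2 R ∧ JB B X ≤ normalizer (R : Set G))
include a hc hYz hloc

omit hc hYz hloc in
theorem S_le_JB : (S : Subgroup G) ≤ JB B X := (wc_S_le a.wc).trans NB_le_JB

omit hYz in
theorem char2_JB : JB B X ⊓ centralizer (o2 (JB B X) : Set G) ≤ o2 (JB B X) := by
  obtain ⟨R, hR, hR2, hJR⟩ := hloc
  exact char2_of_loc hc (S_le_JB a) hR2 hR hJR

omit a hc hYz hloc in
theorem V_le_clJB : VB Y B ≤ cl Y (JB B X) := cl_mono _ NB_le_JB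

omit a hc hYz hloc in
theorem cl_le_clJB : cl (VB Y B) (JB B X) ≤ cl Y (JB B X) := cl_le' V_le_clJB (le_normalizer_cl _ _)

omit hc hloc in
theorem clJB_le_V' (hn : NotFF (cl Y (JB B X))) :
    cl Y (JB B X) ≤ VL (S : Subgroup G) Y (LH (S : Subgroup G) Y (JB B X)) := by
  have h1 := (root_LH (S_le_JB a) hYz a.ZY hn).cl_le_V
  rwa [cl_LH (S_le_JB a)] at h1

omit hc hYz hloc in
theorem WH_le_JB : WH (S : Subgroup G) Y (LH (S : Subgroup G) Y (JB B X)) ≤
    (S : Subgroup G) ⊓ centralizer (cl Y (JB B X) : Set G) := by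
  have h1 := WH_le (S : Subgroup G) Y (LH (S : Subgroup G) Y (JB B X))
  unfold QL at h1
  rwa [cl_LH (S_le_JB a)] at h1

omit hc hYz hloc in
theorem WH_le_B_JB : WH (S : Subgroup G) Y (LH (S : Subgroup G) Y (JB B X)) ≤ B :=
  ((WH_le_JB a).trans (inf_le_inf_left _ (centralizer_le V_le_clJB))).trans a.cs.le

include f p

omit hc hloc in
/-- `V'_J ≤ O₂(C_G(Z))`: a smaller admissible subgroup. -/
theorem closed_adm [hι : Nonempty ι] (hn : NotFF (cl Y (JB B X)))
    (hV : VL (S : Subgroup G) Y (LH (S : Subgroup G) Y (JB B X)) ≤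
      o2 (centralizer (zc (S : Subgroup G) : Set G))) :
    Adm S Y L (WH (S : Subgroup G) Y (LH (S : Subgroup G) Y (JB B X))) ∧
      WH (S : Subgroup G) Y (LH (S : Subgroup G) Y (JB B X)) ≤ B ∧
      WH (S : Subgroup G) Y (LH (S : Subgroup G) Y (JB B X)) ≠ B := by
  have h := root_LH (S_le_JB a) hYz a.ZY hn
  have h1 := Adm.of_root h hV
  refine ⟨⟨a.ZY, h1.wc, (WH_le_B_JB a).trans a.le, h1.cs, h1.comm, h1.sq, h1.nff, h1.low⟩, WH_le_B_JB a,
    fun h0 => ?_⟩
  obtain ⟨i⟩ := hι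
  apply (p i).nle
  have h2 : cl Y (JB B X) ≤ VB Y B := by
    have h3 := clJB_le_V' a hYz hn
    have h4 : VL (S : Subgroup G) Y (LH (S : Subgroup G) Y (JB B X)) =
        VB Y (WH (S : Subgroup G) Y (LH (S : Subgroup G) Y (JB B X))) := rfl
    rwa [h4, h0] at h3
  have h3 : cl Y (JB B X) = VB Y B := le_antisymm h2 V_le_clJB
  have h4 := (X_le_JB (B := B) (X := X) i).trans (le_normalizer_cl Y (JB B X))
  rwa [h3] at h4

theorem exists_btF_adm (h2 : ∀ i, Two (VB Y B) (X i)) (hSne : (S : Subgroup G) ≠ ⊥)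
    (hn : NotFF (cl Y (JB B X)))
    (hV : ¬ VL (S : Subgroup G) Y (LH (S : Subgroup G) Y (JB B X)) ≤
      o2 (centralizer (zc (S : Subgroup G) : Set G))) :
    ∃ F₁ : Subgroup G, BtF (VB Y B) F T X (normalizer (B : Set G)) B
      (VL (S : Subgroup G) Y (LH (S : Subgroup G) Y (JB B X))) F₁ ∧
      ¬ cl (VB Y B) (JB B X) ≤
        EE (VL (S : Subgroup G) Y (LH (S : Subgroup G) Y (JB B X))) F₁ ∧
      cl (VB Y B) (JB B X) ≤ VL (S : Subgroup G) Y (LH (S : Subgroup G) Y (JB B X)) := by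
  set V := VB Y B with hVd
  set J := JB B X with hJ
  set V' := VL (S : Subgroup G) Y (LH (S : Subgroup G) Y J) with hV'
  have l := a.lines
  have hOff := Final.stmtOff G
  have hMJ : normalizer (B : Set G) ≤ J := NB_le_JB
  have hXJ : ∀ i, X i ≤ J := X_le_JB
  have hSJ : (S : Subgroup G) ≤ J := S_le_JB a
  have char2 : J ⊓ centralizer (o2 J : Set G) ≤ o2 J := char2_JB a hc hloc
  have pn : ∀ i, Pan V (F i) (T i) (X i) (normalizer (B : Set G)) B := fun i => by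
    have h1 := pan (f i) l (p i) fun g hg => Alpha.ti hc l g hg
    rwa [a.cs] at h1
  have hBT : ∀ i, B ≤ T i := fun i => by
    have hQ := (f i).Q0_le
    rwa [a.cs] at hQ
  have root : Root S Y (LH (S : Subgroup G) Y J) := root_LH hSJ hYz a.ZY hn
  have hle : cl Y J ≤ V' := clJB_le_V' a hYz hn
  have hVJ : V ≤ cl Y J := V_le_clJB
  have hVH : cl V J ≤ cl Y J := cl_le_clJB
  have hHV : cl Y J ≤ cl V J := cl_mono_left _ (le_cl _ _)
  have hUH : ∀ i, cl V (X i) ≤ cl Y J := fun i => cl_le fun x hx =>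
    (cj_le_cl (V := V) (hXJ i hx)).trans hVH
  -- `W_F ≤ S` implies `W_F ≤ B`
  have hWB : ∀ F, MaxBad V' F → WW V' F ≤ (S : Subgroup G) → WW V' F ≤ B := by
    intro F hF hFS
    refine le_trans (le_inf hFS ?_) a.cs.le
    by_contra hne
    have hoff := off_of hc hOff root hF hFS (hVJ.trans hle) a.low hne
    have h3 := a.nff _ (WW_pgroup _ _) (hFS.trans a.lines.S_le) hoff.sq hoff.comm hne
    exact absurd (FFThm.relIndex_le_iff.1 hoff.le) (not_le.2 h3)
  have hWHle := WH_le_JB a (X := X)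
  have hWHB := WH_le_B_JB a (X := X)
  obtain ⟨F0, hF0, hS0, hne0⟩ := exists_WW hc hSne root hV
  rw [cl_LH hSJ] at hne0
  set Fam : Set (Subgroup G) := {D | D = WH (S : Subgroup G) Y (LH (S : Subgroup G) Y J) ∨
      ∃ F, MaxBad V' F ∧ WW V' F = D ∧ WW V' F ≤ (S : Subgroup G)} with hFam
  have hFamB : ∀ D ∈ Fam, D ≤ B := by
    rintro D (rfl | ⟨F, hF, rfl, hFS⟩)
    · exact hWHB
    · exact hWB F hF hFS
  have hcl : ∀ g ∈ J, (∀ D ∈ Fam, cj g D ≤ (S : Subgroup G)) → ∀ D ∈ Fam, cj g D ≤ sSup Fam := by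
    intro g hg hgS
    have hgM : g ∈ ML (S : Subgroup G) Y (LH (S : Subgroup G) Y J) := mem_ML_of_le (hgS _ (Or.inl rfl))
    rintro D (rfl | ⟨F, hF, rfl, hFS⟩)
    · rw [cj_eq_of_mem_normalizer hgM]
      exact le_sSup (Or.inl rfl)
    · have h1 := WW_cj (F := F) (ML_le_norm_V _ _ _ hgM)
      have h3 := hgS _ (Or.inr ⟨F, hF, rfl, hFS⟩)
      rw [← h1] at h3 ⊢
      exact le_sSup (Or.inr ⟨cj g F, hF.cj (ML_le_norm_V _ _ _ hgM), rfl, h3⟩)
  have hex : ∃ i, ∃ D ∈ Fam, ¬ D ≤ o2 (X i) := by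
    by_contra hcon
    push Not at hcon
    have hKB : sSup Fam ≤ B := sSup_le hFamB
    have hKS : sSup Fam ≤ (S : Subgroup G) := hKB.trans a.wc.le
    have hcl' : ∀ g ∈ J, cj g (sSup Fam) ≤ (S : Subgroup G) → cj g (sSup Fam) ≤ sSup Fam := by
      intro g hg hgS
      rw [cj_sSup]
      exact iSup_le fun D => hcl g hg (fun D hD => (cj_mono g (le_sSup hD)).trans hgS) D D.2
    have hcore : sSup Fam ≤ o2 J := by
      refine le_o2 (hKS.trans hSJ) (S.isPGroup'.to_le hKS) (sup_le ?_ (iSup_le fun i => ?_))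
      · intro m hm
        refine mem_normalizer_of_map_le (hcl' m (hMJ hm) ?_)
        have h1 := cj_mono m hKB
        rw [cj_eq_of_mem_normalizer hm] at h1
        exact h1.trans a.wc.le
      · intro x hx
        refine mem_normalizer_of_map_le (hcl' x (hXJ i hx) ?_)
        have h1 := cj_mono x (sSup_le (hcon i) : sSup Fam ≤ o2 (X i))
        rw [cj_eq_of_mem_normalizer (le_normalizer_o2 _ hx)] at h1
        exact h1.trans ((o2_le_syl ((f i).sylX (p i))).trans (f i).T_le)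
    exact hne0 (((le_sSup (a := WW V' F0) (Or.inr ⟨F0, hF0, rfl, hS0⟩)).trans hcore).trans (o2_cent hYz))
  obtain ⟨i, D, hD, hDX⟩ := hex
  have hcen : ∀ D, D ≤ B → D ≤ centralizer (cl Y J : Set G) → D ≤ o2 (X i) := fun D hDB hDc =>
    (pn i).le_o2_of_cent_U (S.isPGroup'.to_le (hDB.trans a.wc.le)) ((hDB.trans (hBT i)).trans (p i).T_le)
      (hDc.trans (centralizer_le (hUH i)))
  rcases hD with rfl | ⟨F₁, hF₁, rfl, hFS⟩
  · exact absurd (hcen _ hWHB (hWHle.trans inf_le_right)) hDX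
  have hWB₁ := hWB F₁ hF₁ hFS
  have hy : NOne.Flat.Hyp V' F₁ := hyp_of hc root hF₁
  refine ⟨F₁, ?_, fun h0 => ?_, hVH.trans hle⟩
  · exact
      { pan := pn
        noov := fun i => K0.noOv FFBr.aStmt ((f i).sylX (p i)) ((f i).isMinPar l (p i))
        sm := fun i => sm l hc (pn i)
        two := h2
        hno := fun i => noOver_of (Exit.Bridge.Sit.of_fl hc l (f i) (p i) (pn i).U_comm (pn i).U_sq (le_cl _ _)
          (le_normalizer_cl _ _))
        hy := hy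
        hoff := hOff _ _ hy
        good := good_adm_cj a hc
        WQ := hWB₁
        WX := ⟨i, hDX⟩
        UV := fun i => (hUH i).trans hle }
  · -- `W` centralises `⟨Y^J⟩`
    have h1 : cl Y J ≤ EE V' F₁ := hHV.trans h0
    have h3 := hy.off_of_le (hOff _ _ hy) h1
    have hW2 : IsPGroup 2 (WW V' F₁) := WW_pgroup _ _
    have hWH : WW V' F₁ ≤ normalizer (cl Y J : Set G) :=
      ((hWB₁.trans a.wc.le).trans hSJ).trans (le_normalizer_cl _ _)
    obtain ⟨e1, e2⟩ := hy.elem_W hle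
    by_cases hcen' : WW V' F₁ ≤ centralizer (cl Y J : Set G)
    · exact hDX (hcen _ hWB₁ hcen')
    · have h4 := hn (WW V' F₁) hW2 hWH (fun s hs => by rw [pow_two]; exact e2 s hs)
        (fun s hs t ht => e1 s hs t ht) hcen'
      exact absurd h3 (not_le.2 h4)

variable (h2 : ∀ i, Two (VB Y B) (X i)) (hSne : (S : Subgroup G) ≠ ⊥)
include h2 hSne

/-- **THEOREM BETA2 for a family**, for an admissible `B` -/
theorem fam_adm (hn : NotFF (cl Y (JB B X))) :
    VL (S : Subgroup G) Y (LH (S : Subgroup G) Y (JB B X)) ≤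
      o2 (centralizer (zc (S : Subgroup G) : Set G)) := by
  by_contra hV
  obtain ⟨F₁, t, h1, h3⟩ := exists_btF_adm a hc f p hYz hloc h2 hSne hn hV
  exact t.false (H := JB B X) (sup_le le_sup_right le_sup_left) NB_le_JB X_le_JB h1 h3

/-- `B` minimal admissible: `⟨Y^J⟩` is FF for every nonempty family of panels with two noncentral factors. -/
theorem ff_adm [Nonempty ι] (hmin : ∀ B', Adm S Y L B' → B' ≤ B → B' = B) :
    ¬ NotFF (cl Y (JB B X)) := by
  intro hn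
  obtain ⟨h1, h3, h4⟩ := closed_adm a f p hYz hn (fam_adm a hc f p hYz hloc h2 hSne hn)
  exact h4 (hmin _ h1 h3)

end

/-- `J = ⟨N_G(B), X i⟩` is 2-local. -/
theorem loc_fam (a : Adm S Y L B) (hc : IsCharacteristicTwoType G) [Nonempty ι]
    (f : ∀ i, Fl S (VB Y B) (F i) (T i)) (p : ∀ i, Par (VB Y B) (F i) (T i) (X i))
    (h2 : ∀ i, Two (VB Y B) (X i)) :
    ∃ R : Subgroup G, R ≠ ⊥ ∧ IsPGroup 2 R ∧ JB B X ≤ normalizer (R : Set G) := by
  obtain ⟨R, hR, hR2, h3, h4⟩ := Exit.exists_loc_fam FFBr.aStmt hc a.lines F T X f p h2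
  rw [a.cs] at h3
  exact ⟨R, hR, hR2, sup_le h3 (iSup_le h4)⟩

end Cfsg.Agent.Omega.NO3b.Seed
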