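import Cfsg.Agent.Omega.NO3b.Seed.GamJ
import Cfsg.Agent.Omega.NO3b.BasePt.BlkIn

/-!
# The chain with a seed `Y`: the panels of `V` as a system `PanSys` (#20856 (2), #22211)

`B` admissible (`Adm S Y L B`), `V = VB Y B`, `(F i, T i, X i)` panels of `V` with two noncentral factors.

* `Adm.blkIn` : one panel, in the module `⟨Y^J⟩`, `J ≥ N_G(B), X`, for an optimal offender `A ≤ B`, `A ≰ O₂(X)`;
* `Adm.panSys` : if `⟨Y^J⟩` is FF for `J = ⟨N_G(B), X i, X j⟩` and all `i`, `j` then the panels form a `PanSys`.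
-/

set_option autoImplicit false

namespace Cfsg.Agent.Omega.NO3b.Seed

open Subgroup Cfsg
open Cfsg.Agent.ZN (o2 zc zl jj zj)
open Cfsg.Agent.ZN.ChoiceBase hiding mem_zc
open Cfsg.Agent.Omega.NO3b.EZero (NotFF Par cl le_cl cj_le_cl cl_le le_normalizer_cl)
open Cfsg.Agent.Omega.NO3b.Alpha (Fl)
open Cfsg.Agent.Omega.NOThreeL.Star (Opt exists_opt)
open Cfsg.Agent.Omega.NO3b.Exit (wc_S_le)
open Cfsg.Agent.Omega.NO3b.Exit.Bridge
open Cfsg.Agent.Omega.NO3b.Exit.TDat (Red)
open Cfsg.Agent.Omega.NO3b.BetaTwo (JB)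
open Cfsg.Agent.Omega.NO3b.BasePt (BlkIn blkIn_of_mx PanSys)
open Cfsg.Agent.Omega.FFBr (XX im)

universe u v

variable {G : Type u} [Group G] [Finite G] {S : Sylow 2 G} {Y L B : Subgroup G}

namespace Adm

section one

variable {J F T X : Subgroup G} (a : Adm S Y L B) (hc : IsCharacteristicTwoType G)
  (hM : normalizer (B : Set G) ≤ J) (hYz : Y ≤ zc (o2 J)) (f : Fl S (VB Y B) F T) (p : Par (VB Y B) F T X)
  (hX : X ≤ J)
include a hc hM hYz f p hX

/-- **the blocks of `V` in `⟨Y^J⟩`** -/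
theorem blkIn {A : Subgroup G} (hA : Opt (cl Y J) A) (hAB : A ≤ B) (hAX : ¬ A ≤ o2 X)
    (h2 : K0.Mix.Two (VB Y B) X)
    (hred : Red (im (le_normalizer_cl Y J) (normalizer (B : Set G))) (ad (cl_cent hYz) (VB Y B))) :
    BlkIn (S : Subgroup G) (VB Y B) (normalizer (B : Set G)) F (le_normalizer_cl Y J) (cl_cent hYz) := by
  obtain ⟨x, -, m⟩ := a.exists_mxJ hc hM hYz f p hX hA hAB hAX h2 hred
  exact blkIn_of_mx m (wc_S_le a.wc) S.isPGroup' (a.syl_imJ hM)

end one

section fam

variable {ι : Type v} {F T X : ι → Subgroup G}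

/-- **the panels form a system** -/
theorem panSys (a : Adm S Y L B) (hc : IsCharacteristicTwoType G)
    (f : ∀ i, Fl S (VB Y B) (F i) (T i)) (p : ∀ i, Par (VB Y B) (F i) (T i) (X i))
    (h2 : ∀ i, K0.Mix.Two (VB Y B) (X i))
    (hY : ∀ i j, Y ≤ zc (o2 (normalizer (B : Set G) ⊔ (X i ⊔ X j))))
    (hff : ∀ i j, ¬ NotFF (cl Y (normalizer (B : Set G) ⊔ (X i ⊔ X j))))
    (hred : ∀ {U H : Subgroup G} (hH : H ≤ normalizer (U : Set G)) (hU : U ≤ centralizer (U : Set G)),
      normalizer (B : Set G) ≤ H → VB Y B ≤ U → Red (im hH (normalizer (B : Set G))) (ad hU (VB Y B))) :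
    PanSys (S : Subgroup G) (VB Y B) (normalizer (B : Set G)) F
      (fun i => cl Y (normalizer (B : Set G) ⊔ X i)) (fun i => normalizer (B : Set G) ⊔ X i) := by
  have hY1 : ∀ i, Y ≤ zc (o2 (normalizer (B : Set G) ⊔ X i)) := fun i => by
    have h1 := hY i i
    rwa [sup_idem] at h1
  have hff1 : ∀ i, ¬ NotFF (cl Y (normalizer (B : Set G) ⊔ X i)) := fun i => by
    have h1 := hff i i
    rwa [sup_idem] at h1
  refine
    { hH := fun i => le_normalizer_cl _ _
      hU := fun i => cl_cent (hY1 i)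
      VU := fun i => V_leJ le_sup_left
      MH := fun i => le_sup_left
      FV := fun i => (f i).le
      one := fun i => ?_
      two := fun i j => ?_ }
  · obtain ⟨A, hA, hAB, -, hAX⟩ := a.exists_optJ (ι := Unit) (F := fun _ => F i) (T := fun _ => T i)
      (X := fun _ => X i) hc (fun _ => f i) (fun _ => p i)
      (by rw [JB, iSup_const]; exact hY1 i) (by rw [JB, iSup_const]; exact hff1 i)
    rw [JB, iSup_const] at hA
    exact a.blkIn hc le_sup_left (hY1 i) (f i) (p i) le_sup_right hA hAB hAX (h2 i)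
      (hred _ _ le_sup_left (V_leJ le_sup_left))
  · have e : JB B (fun b : Bool => if b then X i else X j) = normalizer (B : Set G) ⊔ (X i ⊔ X j) := by
      rw [JB, iSup_bool_eq]
      rfl
    obtain ⟨A, hA, hAB, b, hAX⟩ := a.exists_optJ (ι := Bool) (F := fun b => if b then F i else F j)
      (T := fun b => if b then T i else T j) (X := fun b => if b then X i else X j) hc
      (by rintro (_ | _); exacts [f j, f i]) (by rintro (_ | _); exacts [p j, p i])
      (by rw [e]; exact hY i j) (by rw [e]; exact hff i j)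
    rw [e] at hA
    refine ⟨_, _, le_normalizer_cl Y _, cl_cent (hY i j), cl_mono _ (sup_le_sup_left le_sup_left _),
      cl_mono _ (sup_le_sup_left le_sup_right _), le_sup_left, ?_⟩
    rcases b with _ | _
    · exact Or.inr (a.blkIn hc le_sup_left (hY i j) (f j) (p j) (le_sup_right.trans le_sup_right) hA hAB hAX (h2 j)
        (hred _ _ le_sup_left (V_leJ le_sup_left)))
    · exact Or.inl (a.blkIn hc le_sup_left (hY i j) (f i) (p i) (le_sup_left.trans le_sup_right) hA hAB hAX (h2 i)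
        (hred _ _ le_sup_left (V_leJ le_sup_left)))

end fam

end Adm

end Cfsg.Agent.Omega.NO3b.Seed
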