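import Cfsg.Agent.Omega.NO3b.Seed.LocFam
import Cfsg.Agent.Omega.NO3b.Seed.PanJ
import Cfsg.Agent.Omega.NO3b.BasePt.FamU
import Cfsg.Agent.Omega.NO3b.BasePt.Red
import Cfsg.Agent.Omega.NO3b.BasePt.TTwo

/-!
# The chain with a seed `Y`: the blocks of `V` (#20856 (2), #22211)

`LocY S Y M B` (`Seed/Max.lean`), `V = VB Y B`, `L = N_G(B)`.

* `LocY.exists_fam` : the set `𝒴` of all blocks, `V = Σ [V, Y'] + C_V(RR 𝒴)`, the flats of the panels over `Z` are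
  `C_V(Q)`, `Q ≤ Y' ∈ 𝒴`.
-/

set_option autoImplicit false

namespace Cfsg.Agent.Omega.NO3b.Seed

open Subgroup Cfsg
open Cfsg.Agent.ZN (o2 zc zl jj zj)
open Cfsg.Agent.ZN.ChoiceBase hiding mem_zc
open Cfsg.Agent.Omega.MinPar (IsParS IsLoc isLoc_of_le_normalizer)
open Cfsg.Agent.Omega.NO3b.EZero (NotFF Par cl le_cl cj_le_cl cl_le le_normalizer_cl)
open Cfsg.Agent.Omega.NO3b.Alpha (Fl)
open Cfsg.Agent.Omega.NO3b.Exit (wc_S_le)
open Cfsg.Agent.Omega.NO3b.Exit.Bridge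
open Cfsg.Agent.Omega.NO3b.Exit.TDat (Red)
open Cfsg.Agent.Omega.NO3b.BetaTwo (JB)
open Cfsg.Agent.Omega.NO3b.BasePt (BlkIn PanSys Fam RR sm)
open Cfsg.Agent.Omega.NO3b.BasePt.FamG (BU)
open Cfsg.Agent.Omega.FFBr (XX im)
open Cfsg.Agent.Omega.FF.Basic (fx)

universe u v

variable {G : Type u} [Group G]

theorem BU_of {S V M₀ F U H : Subgroup G} {hH : H ≤ normalizer (U : Set G)} {hU : U ≤ centralizer (U : Set G)}
    (hVU : V ≤ U) (hMH : M₀ ≤ H) (b : BlkIn S V M₀ F hH hU) : BU V M₀ F U := by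
  obtain ⟨BB, Lw, C, x, hV, b⟩ := b
  exact ⟨hVU, H, hH, hU, hV, hMH, _, _, _, _, _, _, _, b⟩

variable [Finite G] {S : Sylow 2 G} {Y M B : Subgroup G}

namespace LocY

/-- **The blocks of `V`.** -/
theorem exists_fam (g : LocY S Y M B) (hG : IsCharacteristicTwoType G) (hne : zc (S : Subgroup G) ≠ ⊥)
    (hK : Core (S : Subgroup G) Y) (hpar : ∀ R, IsParS (S : Subgroup G) R → R ≤ M)
    {N : Subgroup G} (hN : N ≤ normalizer (VB Y B : Set G)) (hV : VB Y B ≤ centralizer (VB Y B : Set G))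
    (hMN : normalizer (B : Set G) ≤ N) :
    ∃ 𝒴 : Set (Subgroup (XX hN)), Fam (MU hV) (im hN (normalizer (B : Set G))) 𝒴 ∧
      (∀ w : MU hV, ∃ a ∈ sm (MU hV) 𝒴, ∃ c : MU hV, (∀ r ∈ RR 𝒴, r • c = c) ∧ w = a + c) ∧
      ∀ F T X : Subgroup G, Fl S (VB Y B) F T → zc (S : Subgroup G) ≤ F → Par (VB Y B) F T X →
        ∃ Y' ∈ 𝒴, ∃ Q ≤ Y', fx (MU hV) Q = ad hV F := by
  let ι := {t : Subgroup G × Subgroup G × Subgroup G // Fl S (VB Y B) t.1 t.2.1 ∧
    zc (S : Subgroup G) ≤ t.1 ∧ Par (VB Y B) t.1 t.2.1 t.2.2}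
  have hJ : ∀ X X' : Subgroup G, JB B (fun b : Bool => if b then X else X') = normalizer (B : Set G) ⊔ (X ⊔ X') := by
    intro X X'
    rw [JB, iSup_bool_eq]
    rfl
  have ps := g.adm.panSys (ι := ι) (F := fun t => t.1.1) (T := fun t => t.1.2.1) (X := fun t => t.1.2.2) hG
    (fun t => t.2.1) (fun t => t.2.2.2) (fun t => g.two hG hne t.2.1 t.2.2.1 t.2.2.2) (by
      rintro ⟨⟨F, T, X⟩, f, hZ, p⟩ ⟨⟨F', T', X'⟩, f', hZ', p'⟩
      have h1 := g.Yz_fam hG hne (ι := Bool) (fun b => if b then F else F') (fun b => if b then T else T')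
        (fun b => if b then X else X') (by rintro (_ | _); exacts [f', f]) (by rintro (_ | _); exacts [hZ', hZ])
        (by rintro (_ | _); exacts [p', p])
      rwa [hJ] at h1)
    (by
      rintro ⟨⟨F, T, X⟩, f, hZ, p⟩ ⟨⟨F', T', X'⟩, f', hZ', p'⟩
      have h1 := g.gam_fam hG hne (ι := Bool) (fun b => if b then F else F') (fun b => if b then T else T')
        (fun b => if b then X else X') (by rintro (_ | _); exacts [f', f]) (by rintro (_ | _); exacts [hZ', hZ])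
        (by rintro (_ | _); exacts [p', p])
      rwa [hJ] at h1)
    (fun hH hU hM hVU => g.red hH hU hG hK hpar hM hVU)
  have hred : Red (im hN (normalizer (B : Set G))) (⊤ : AddSubgroup (MU hV)) := by
    have h1 := g.red hN hV hG hK hpar hMN le_rfl
    rwa [ad_U] at h1
  obtain ⟨𝒴, h1, h2, h3⟩ := BasePt.FamG.exists_fam (hN := hN) (hV := hV) g.adm.sq hred hMN g.adm.nff (ι := ι) (fun t => t.1.1)
    (fun t => cl Y (normalizer (B : Set G) ⊔ t.1.2.2)) ps.FV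
    (fun t h0 => t.2.1.nle (by rw [h0]; exact centralizer_le_normalizer _))
    (fun t => BU_of (ps.VU t) (ps.MH t) (ps.one t))
    (fun t t' => by
      obtain ⟨U', H', hH', hU', h1, h2, h3, h4⟩ := ps.two t t'
      exact ⟨U', h1, h2, h4.imp (BU_of ((ps.VU t).trans h1) h3) (BU_of ((ps.VU t).trans h1) h3)⟩)
  exact ⟨𝒴, h1, h2, fun F T X f hZ p => h3 ⟨(F, T, X), f, hZ, p⟩⟩

end LocY

end Cfsg.Agent.Omega.NO3b.Seed
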