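import Cfsg.Agent.Omega.NO3b.Seed.LemT
import Cfsg.Agent.Omega.NO3b.Chain.FamT

/-!
# NotFF (c), local exit: LEMMA T for families, with a seed `Y` (helper235's `Chain/FamT.lean`)

`L` is reached from `P`, `M = M(L)`, `𝓕` a family of subgroups invariant under `M`, `DF S 𝓕` the join of its members
in `S`.

* `le_WH_of_fam` : (T1); `Step.cent_of_fam` : (T2);
* `famT` : **LEMMA T**: if the members of `𝓕` in `S` centralise `V_P`, then they lie in `W(L)`, so centralise `V(L)`;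
* `exists_fam` : the principle: a member of `𝓕` in `S` moves `V_P` if one of them moves `V(L)`;
* `exists_fam_fix` : the panels excluded by the action of `O²(X)` on `C_{V(L)}(DF S 𝓕)`.
-/

set_option autoImplicit false
set_option linter.unusedSectionVars false

namespace Cfsg.Agent.Omega.NO3b.Seed

open Subgroup Cfsg
open Cfsg.Agent.ZN (o2 zc zl jj zj)
open Cfsg.Agent.ZN.ChoiceBase hiding mem_zc
open Cfsg.Agent.ZN.ChoiceSit (Syl o2_le_syl)
open Cfsg.Agent.Omega.MinPar Cfsg.Agent.Omega.Frame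
open Cfsg.Agent.Omega.NO3b.EZero (NotFF Par cent_symm cl le_cl cj_le_cl cl_le le_normalizer_cl)
open Cfsg.Agent.Omega.NO3b.Alpha (Fl)
open Cfsg.Agent.Omega.NO3b.NoEmp (Lines)
open Cfsg.Agent.Omega.NO3b.Chain (le_normalizer_inf le_normalizer_centralizer DF DF_le DF_le_sSup le_DF DF_cent
  cj_DF_le le_normalizer_sSup le_normalizer_DF)
open Cfsg.Agent.MinSimple.VModule (oddGen oddGen_le oddGen_le_of_sup le_normalizer_o2 le_centralizer_zc)

universe u

variable {G : Type u} [Group G]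

variable [Finite G] {S : Sylow 2 G} {Y P L F T X M : Subgroup G} {𝓕 : Set (Subgroup G)}

/-- **(T1)** -/
theorem le_WH_of_fam (hM : ML (S : Subgroup G) Y L ≤ M) (hF : ∀ A ∈ 𝓕, ∀ m ∈ M, cj m A ∈ 𝓕)
    (hD : ∀ A ∈ 𝓕, A ≤ (S : Subgroup G) → A ≤ centralizer (cl Y L : Set G)) :
    DF (S : Subgroup G) 𝓕 ≤ WH (S : Subgroup G) Y L := by
  set K : Subgroup G := DF (S : Subgroup G) 𝓕 ⊔ WH (S : Subgroup G) Y L with hK
  have hKQ : K ≤ QL (S : Subgroup G) Y L := sup_le (le_inf (DF_le _ _) (DF_cent hD)) (WH_le _ _ _)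
  refine (le_sup_left : DF (S : Subgroup G) 𝓕 ≤ K).trans
    (le_WH ⟨hKQ.trans inf_le_left, fun g hg => ?_⟩ hKQ)
  have h2 : g ∈ ML (S : Subgroup G) Y L := mem_ML_of_le ((cj_mono g le_sup_right).trans hg)
  have h4 : cj g K ≤ K := by
    change Subgroup.map _ _ ≤ _
    rw [hK, Subgroup.map_sup]
    refine sup_le_sup (cj_DF_le hF (hM h2) ((cj_mono g le_sup_left).trans hg)) ?_
    exact (cj_eq_of_mem_normalizer h2).le
  exact Subgroup.eq_of_le_of_card_ge h4 (card_cj _ _).ge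

/-- **(T2)** -/
theorem Step.cent_of_fam (s : Step S Y L F T X) (h : Root S Y L)
    (l : Lines S (WH (S : Subgroup G) Y L) (VL (S : Subgroup G) Y L))
    (hM : nx (S : Subgroup G) Y L X ≤ M) (hF : ∀ A ∈ 𝓕, ∀ m ∈ M, cj m A ∈ 𝓕)
    (hD : DF (S : Subgroup G) 𝓕 ≤ WH (S : Subgroup G) Y L) (hX : ¬ oddGen X ≤ sSup 𝓕) :
    DF (S : Subgroup G) 𝓕 ≤ centralizer (cl Y (nx (S : Subgroup G) Y L X) : Set G) := by
  have h4 : DF (S : Subgroup G) 𝓕 ≤ T := hD.trans (s.WH_le h)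
  have h2 : DF (S : Subgroup G) 𝓕 ≤ o2 X := by
    rcases s.min_or l (K := X ⊓ sSup 𝓕) inf_le_left
      (le_normalizer_inf Subgroup.le_normalizer ((Step.X_le.trans hM).trans (le_normalizer_sSup hF))) with h3 | h3
    · exact absurd (h3.trans inf_le_right) hX
    · exact (le_inf h4 (le_inf (h4.trans s.par.T_le) (DF_le_sSup _ _))).trans h3
  have h5 : nx (S : Subgroup G) Y L X ≤ normalizer ((DF (S : Subgroup G) 𝓕 : Subgroup G) : Set G) :=
    sup_le (le_normalizer_DF (Step.ML_le.trans hM) hF hD (WH_le_S _ _ _) le_rfl)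
      (le_normalizer_DF (Step.X_le.trans hM) hF h2 ((o2_le_syl (s.fl.sylX s.par)).trans s.fl.T_le)
        (le_normalizer_o2 X))
  refine cent_symm (cl_le' ?_ (le_normalizer_centralizer h5))
  exact cent_symm (hD.trans (h.WH_cent.trans (centralizer_le (Y_le_V _ _ _))))

/-- **LEMMA T for families.** -/
theorem famT (hc : IsCharacteristicTwoType G) (hne : zc (S : Subgroup G) ≠ ⊥) (hP : Stage S Y P)
    (r : Reach S Y P L) (hF : ∀ A ∈ 𝓕, ∀ m ∈ ML (S : Subgroup G) Y L, cj m A ∈ 𝓕)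
    (hX : ∀ L₁ F T X : Subgroup G, Reach S Y P L₁ → Step S Y L₁ F T X → Reach S Y (nx (S : Subgroup G) Y L₁ X) L →
      DF (S : Subgroup G) 𝓕 ≤ WH (S : Subgroup G) Y L₁ → ¬ oddGen X ≤ sSup 𝓕)
    (h0 : ∀ A ∈ 𝓕, A ≤ (S : Subgroup G) → A ≤ centralizer (cl Y P : Set G)) :
    DF (S : Subgroup G) 𝓕 ≤ WH (S : Subgroup G) Y L := by
  have key : ∀ L₁ : Subgroup G, Reach S Y P L₁ → Reach S Y L₁ L →
      DF (S : Subgroup G) 𝓕 ≤ centralizer (cl Y L₁ : Set G) := by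
    intro L₁ r₁
    induction r₁ with
    | base => exact fun _ => DF_cent h0
    | @step L₂ F T X r₂ s ih =>
      intro r₃
      have hs := r₂.stage hc hne hP
      have hs' := (r₂.step s).stage hc hne hP
      have r₄ : Reach S Y L₂ L := (Reach.base.step s).trans r₃
      have h1 := le_WH_of_fam (r₄.ML_le hc hne hs) hF fun A hA hAS => (le_DF hA hAS).trans (ih r₄)
      exact s.cent_of_fam hs.toRoot (hs.lines hc hne) (hs'.L_le.trans (r₃.ML_le hc hne hs')) hF h1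
        (hX L₂ F T X r₂ s r₃ h1)
  exact le_WH_of_fam le_rfl hF fun A hA hAS => (le_DF hA hAS).trans (key L r Reach.base)

/-- **The principle along the chain.** -/
theorem exists_fam (hc : IsCharacteristicTwoType G) (hne : zc (S : Subgroup G) ≠ ⊥) (hP : Stage S Y P)
    (r : Reach S Y P L) (hF : ∀ A ∈ 𝓕, ∀ m ∈ ML (S : Subgroup G) Y L, cj m A ∈ 𝓕)
    (hX : ∀ L₁ F T X : Subgroup G, Reach S Y P L₁ → Step S Y L₁ F T X → Reach S Y (nx (S : Subgroup G) Y L₁ X) L →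
      DF (S : Subgroup G) 𝓕 ≤ WH (S : Subgroup G) Y L₁ → ¬ oddGen X ≤ sSup 𝓕)
    {A : Subgroup G} (hA : A ∈ 𝓕) (hAS : A ≤ (S : Subgroup G))
    (hAV : ¬ A ≤ centralizer (VL (S : Subgroup G) Y L : Set G)) :
    ∃ B ∈ 𝓕, B ≤ (S : Subgroup G) ∧ ¬ B ≤ centralizer (cl Y P : Set G) := by
  by_contra hcon
  have hcon' : ∀ B ∈ 𝓕, B ≤ (S : Subgroup G) → B ≤ centralizer (cl Y P : Set G) := by
    intro B hB hBS
    by_contra h1
    exact hcon ⟨B, hB, hBS, h1⟩
  exact hAV ((le_DF hA hAS).trans ((famT hc hne hP r hF hX hcon').trans (r.stage hc hne hP).WH_cent))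

/-- The panels used: `X ≤ C_M(Z)`, and `O²(X)` does not centralise `C_{V(L)}(D)` if `D ≤ W(L₁)`. -/
theorem not_cent_of' (hc : IsCharacteristicTwoType G) (hne : zc (S : Subgroup G) ≠ ⊥) (hP : Stage S Y P)
    {L₁ D : Subgroup G} (r₁ : Reach S Y P L₁) (s : Step S Y L₁ F T X) (r₃ : Reach S Y (nx (S : Subgroup G) Y L₁ X) L)
    (hD : D ≤ WH (S : Subgroup G) Y L₁) :
    X ≤ ML (S : Subgroup G) Y L ∧ X ≤ centralizer (zc (S : Subgroup G) : Set G) ∧
      ¬ oddGen X ≤ centralizer ((VL (S : Subgroup G) Y L ⊓ centralizer (D : Set G) : Subgroup G) : Set G) := by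
  have hs := r₁.stage hc hne hP
  have hs' := (r₁.step s).stage hc hne hP
  refine ⟨(Step.X_le.trans hs'.L_le).trans (r₃.ML_le hc hne hs'), s.par.le.trans (centralizer_le s.zF), ?_⟩
  intro h1
  apply s.oddGen_nle hs.toRoot
  refine (h1.trans (centralizer_le ?_)).trans (centralizer_le_normalizer _)
  refine le_inf ((s.lt hs'.toRoot).le.trans (r₃.V_le hc hne hs')) ?_
  exact cent_symm (hD.trans hs.WH_cent)

/-- **The principle along the chain**, the panels excluded by the action on `C_{V(L)}(DF S 𝓕)`. -/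
theorem exists_fam_fix (hc : IsCharacteristicTwoType G) (hne : zc (S : Subgroup G) ≠ ⊥) (hP : Stage S Y P)
    (r : Reach S Y P L) (hF : ∀ A ∈ 𝓕, ∀ m ∈ ML (S : Subgroup G) Y L, cj m A ∈ 𝓕)
    (hX : ∀ X : Subgroup G, X ≤ ML (S : Subgroup G) Y L → X ≤ centralizer (zc (S : Subgroup G) : Set G) →
      oddGen X ≤ sSup 𝓕 → oddGen X ≤ centralizer ((VL (S : Subgroup G) Y L ⊓
        centralizer ((DF (S : Subgroup G) 𝓕 : Subgroup G) : Set G) : Subgroup G) : Set G))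
    {A : Subgroup G} (hA : A ∈ 𝓕) (hAS : A ≤ (S : Subgroup G))
    (hAV : ¬ A ≤ centralizer (VL (S : Subgroup G) Y L : Set G)) :
    ∃ B ∈ 𝓕, B ≤ (S : Subgroup G) ∧ ¬ B ≤ centralizer (cl Y P : Set G) := by
  refine exists_fam hc hne hP r hF (fun L₁ F T X r₁ s r₃ hD hXR => ?_) hA hAS hAV
  obtain ⟨h1, h2, h3⟩ := not_cent_of' hc hne hP r₁ s r₃ hD
  exact h3 (hX X h1 h2 hXR)

end Cfsg.Agent.Omega.NO3b.Seed
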