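import Cfsg.Agent.Omega.NO3b.Seed.Chain
import Cfsg.Agent.Omega.NO3b.Exit.LocBar
import Cfsg.Agent.Omega.NO3b.Chain.Group

/-!
# The chain with a seed `Y`: `O₂(M / C_M(V)) = 1` (#20856 (1))

`Root S Y L`, `M = M(L)`, `V = V(L) = ⟨Y^M⟩`.  Suppose `P*(S) ⊆ M` and every weakly closed subgroup of `S` which lies
in `O₂(P')` for all `P' ∈ P*(S)` centralises `Y` (`Core`).

* `red_grp` : a normal subgroup `N` of `M` which acts as a 2-group on `V` centralises `V`;
* `red` : `Red (im h M) (ad hc V)` (`Exit/LocBar.lean`).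
-/

set_option autoImplicit false
set_option linter.unusedSectionVars false

namespace Cfsg.Agent.Omega.NO3b.Seed

open Subgroup Cfsg
open Cfsg.Agent.ZN (o2 zc zl jj zj)
open Cfsg.Agent.ZN.ChoiceBase hiding mem_zc
open Cfsg.Agent.ZN.ChoiceSit (Syl o2_le_syl syl_not_dvd)
open Cfsg.Agent.MinSimple.EmptyTI (syl_of_le)
open Cfsg.Agent.Omega.MinPar Cfsg.Agent.Omega.Frame Cfsg.Agent.Omega.FrameNOFF
open Cfsg.Agent.Omega.NO3b.EZero (NotFF Par oddGen_sup_syl cl le_cl cj_le_cl cl_le le_normalizer_cl cent_symm)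
open Cfsg.Agent.Omega.NO3b.Wc (WC StmtOff)
open Cfsg.Agent.Omega.NO3b.Chain (le_normalizer_inf le_normalizer_centralizer oddGen_le_or)
open Cfsg.Agent.Omega.NO3b.Exit.Bridge
open Cfsg.Agent.Omega.NO3b.Exit.TDat (Red)
open Cfsg.Agent.Omega.NO3b.Exit.LocBar (pr_mem_im)
open Cfsg.Agent.Omega.FFBr (XX pr im mem_im)
open Cfsg.Agent.MinSimple.VModule (oddGen zc_comm zc_sq le_normalizer_o2 normalizer_le_normalizer_zc)

open scoped Pointwise

universe u

variable {G : Type u} [Group G] [Finite G] {S : Sylow 2 G} {Y P L : Subgroup G}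

/-- Every weakly closed subgroup of `S` which lies in `O₂(P')` for all `P' ∈ P*(S)` centralises `Y`. -/
def Core (S Y : Subgroup G) : Prop :=
  ∀ K : Subgroup G, WC S K → (∀ R, IsParS S R → K ≤ o2 R) → K ≤ centralizer (Y : Set G)

/-- a normal subgroup of `M(L)` which acts as a 2-group on `V(L)`, centralises `V(L)`: the case `C_M(V) ≤ N` -/
theorem red_aux (h : Root S Y L) (hc : IsCharacteristicTwoType G) (hK : Core (S : Subgroup G) Y)
    (hpar : ∀ R, IsParS (S : Subgroup G) R → R ≤ ML (S : Subgroup G) Y L) {N : Subgroup G}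
    (hN : N ≤ ML (S : Subgroup G) Y L) (hNn : ML (S : Subgroup G) Y L ≤ normalizer (N : Set G))
    (hC : ML (S : Subgroup G) Y L ⊓ centralizer (VL (S : Subgroup G) Y L : Set G) ≤ N)
    (h2 : ∀ n ∈ N, ∃ j : ℕ, n ^ 2 ^ j ∈ centralizer (VL (S : Subgroup G) Y L : Set G)) :
    N ≤ centralizer (VL (S : Subgroup G) Y L : Set G) := by
  have : Fact (Nat.Prime 2) := ⟨Nat.prime_two⟩
  have hSM : (S : Subgroup G) ≤ ML (S : Subgroup G) Y L := h.S_le
  -- `S ∩ N` is weakly closed
  have hW : WH (S : Subgroup G) Y L ≤ (S : Subgroup G) ⊓ N :=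
    le_inf (WH_le_S _ _ _) ((le_inf ((WH_le_S _ _ _).trans hSM) h.WH_cent).trans hC)
  have hwc : WC (S : Subgroup G) ((S : Subgroup G) ⊓ N) := by
    refine ⟨inf_le_left, fun g hg => ?_⟩
    have hgM : g ∈ ML (S : Subgroup G) Y L := mem_ML_of_le ((cj_mono g hW).trans hg)
    have h1 : cj g ((S : Subgroup G) ⊓ N) ≤ (S : Subgroup G) ⊓ N := by
      refine le_inf hg ?_
      rw [cj_inf, cj_eq_of_mem_normalizer (hNn hgM)]
      exact inf_le_right
    exact Subgroup.eq_of_le_of_card_ge h1 (card_cj _ _).ge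
  -- `S ∩ N ≤ O₂(P')`
  have hle : ∀ R, IsParS (S : Subgroup G) R → (S : Subgroup G) ⊓ N ≤ o2 R := by
    intro R hR
    rcases oddGen_le_or hc hR.toIsPar ((hpar R hR).trans hNn) with h1 | h1
    · exfalso
      apply hR.not_zc
      have hodd : oddGen R ≤ centralizer (VL (S : Subgroup G) Y L : Set G) := by
        rw [oddGen, closure_le]
        rintro x ⟨hx, ho⟩
        obtain ⟨j, hj⟩ := h2 x (h1 (MinSimple.VModule.mem_oddGen hx ho))
        have hco : Nat.Coprime (2 ^ j) (orderOf x) := Nat.Coprime.pow_left _ ((Nat.coprime_two_left).2 ho)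
        have h3 : x ∈ zpowers (x ^ 2 ^ j) := by
          rw [mem_zpowers_iff]
          obtain ⟨k, hk⟩ := exists_pow_eq_self_of_coprime hco
          exact ⟨k, by rw [zpow_natCast]; exact hk⟩
        exact (zpowers_le.2 hj) h3
      rw [← oddGen_sup_syl (syl_of_le hR.le)]
      refine sup_le ?_ (Subgroup.le_normalizer.trans (normalizer_le_normalizer_zc _))
      exact (hodd.trans (centralizer_le h.zc_le_V)).trans (centralizer_le_normalizer _)
    · have h3 := IsParS.inf_centralizer S hc hR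
      rw [← h3]
      exact le_inf inf_le_left h1
  have hSY : (S : Subgroup G) ⊓ N ≤ centralizer (Y : Set G) := hK _ hwc hle
  -- `N` centralises `Y`
  have hNY : N ≤ centralizer (Y : Set G) := by
    set C : Subgroup G := ML (S : Subgroup G) Y L ⊓ centralizer (VL (S : Subgroup G) Y L : Set G) with hCdef
    have hCn : (C.subgroupOf N).Normal := normal_subgroupOf_of_le_normalizer (hN.trans
      (le_normalizer_inf Subgroup.le_normalizer (le_normalizer_centralizer (ML_le_norm_V _ _ _))))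
    have hq : IsPGroup 2 (N ⧸ C.subgroupOf N) := by
      intro q
      induction q using QuotientGroup.induction_on with | _ x =>
      obtain ⟨j, hj⟩ := h2 x x.2
      refine ⟨j, ?_⟩
      rw [← QuotientGroup.mk_pow, QuotientGroup.eq_one_iff, mem_subgroupOf]
      exact ⟨Subgroup.pow_mem _ (hN x.2) _, hj⟩
    obtain ⟨k, hk⟩ := IsPGroup.iff_card.1 hq
    have hCi : C.relIndex N = 2 ^ k := hk
    have hsy : Syl ((S : Subgroup G) ⊓ N) N := Cfsg.Agent.Omega.NO3S.Tens.syl_inf (syl_of_le hSM) hN hNn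
    have h4 : ¬ 2 ∣ ((S : Subgroup G) ⊓ N).relIndex N := syl_not_dvd hsy
    set St : Subgroup G := N ⊓ centralizer (Y : Set G) with hSt
    have h5 : St.relIndex N ∣ ((S : Subgroup G) ⊓ N).relIndex N :=
      relIndex_dvd_of_le_left N (le_inf inf_le_right hSY)
    have h6 : St.relIndex N ∣ 2 ^ k := by
      rw [← hCi]
      exact relIndex_dvd_of_le_left N (le_inf hC (inf_le_right.trans (centralizer_le (Y_le_V _ _ _))))
    obtain ⟨i, hi, h7⟩ := (Nat.dvd_prime_pow Nat.prime_two).1 h6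
    have h8 : i = 0 := by
      by_contra h0
      apply h4
      refine dvd_trans ?_ h5
      rw [h7]
      exact dvd_pow_self 2 h0
    rw [h8, pow_zero] at h7
    exact (relIndex_eq_one.1 h7).trans inf_le_right
  -- `V = ⟨Y^M⟩`
  refine cent_symm ?_
  exact cl_le' (cent_symm hNY) (le_normalizer_centralizer hNn)

/-- **(RED)** a normal subgroup of `M(L)` which acts as a 2-group on `V(L)`, centralises `V(L)`. -/
theorem red_grp (h : Root S Y L) (hc : IsCharacteristicTwoType G) (hK : Core (S : Subgroup G) Y)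
    (hpar : ∀ R, IsParS (S : Subgroup G) R → R ≤ ML (S : Subgroup G) Y L) {N : Subgroup G}
    (hN : N ≤ ML (S : Subgroup G) Y L) (hNn : ML (S : Subgroup G) Y L ≤ normalizer (N : Set G))
    (h2 : ∀ n ∈ N, ∃ j : ℕ, n ^ 2 ^ j ∈ centralizer (VL (S : Subgroup G) Y L : Set G)) :
    N ≤ centralizer (VL (S : Subgroup G) Y L : Set G) := by
  set C : Subgroup G := ML (S : Subgroup G) Y L ⊓ centralizer (VL (S : Subgroup G) Y L : Set G) with hCdef
  have hCn : ML (S : Subgroup G) Y L ≤ normalizer (C : Set G) :=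
    le_normalizer_inf Subgroup.le_normalizer (le_normalizer_centralizer (ML_le_norm_V _ _ _))
  have h1 : C ⊔ N ≤ centralizer (VL (S : Subgroup G) Y L : Set G) := by
    refine red_aux h hc hK hpar (sup_le inf_le_left hN) ?_ le_sup_left ?_
    · exact fun m hm => mem_normalizer_iff_cj.2 (by
        change Subgroup.map _ _ = _
        rw [Subgroup.map_sup]
        change cj m C ⊔ cj m N = _
        rw [cj_eq_of_mem_normalizer (hCn hm), cj_eq_of_mem_normalizer (hNn hm)])
    · intro x hx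
      have hNC : N ≤ normalizer (C : Set G) := hN.trans hCn
      have hx' : x ∈ (C : Set G) * (N : Set G) := by
        rw [← coe_mul_of_right_le_normalizer_left C N hNC]
        exact hx
      obtain ⟨c, hcC, n, hn, rfl⟩ := Set.mem_mul.1 hx'
      obtain ⟨j, hj⟩ := h2 n hn
      refine ⟨j, ?_⟩
      have key : ∀ i : ℕ, ∃ c' ∈ C, (c * n) ^ i = c' * n ^ i := by
        intro i
        induction i with
        | zero => exact ⟨1, one_mem _, by simp⟩
        | succ i ih =>
          obtain ⟨c', hc', e⟩ := ih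
          refine ⟨c' * (n ^ i * c * (n ^ i)⁻¹), mul_mem hc' ?_, ?_⟩
          · exact (mem_normalizer_iff.1 (hNC (pow_mem hn i)) c).1 hcC
          · rw [pow_succ, e, pow_succ]; group
      obtain ⟨c', hc', e⟩ := key (2 ^ j)
      rw [e]
      exact mul_mem hc'.2 hj
  exact le_sup_right.trans h1

/-- **(RED)** in `Exit/LocBar.lean` form. -/
theorem red {U H : Subgroup G} (hN : H ≤ normalizer (U : Set G)) (hU : U ≤ centralizer (U : Set G))
    (h : Root S Y L) (hc : IsCharacteristicTwoType G) (hK : Core (S : Subgroup G) Y)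
    (hpar : ∀ R, IsParS (S : Subgroup G) R → R ≤ ML (S : Subgroup G) Y L)
    (hM : ML (S : Subgroup G) Y L ≤ H) (hVU : VL (S : Subgroup G) Y L ≤ U) :
    Red (im hN (ML (S : Subgroup G) Y L)) (ad hU (VL (S : Subgroup G) Y L)) := by
  intro N hNM hNn h2 n hn v hv
  -- the preimage in `M`
  set N' : Subgroup G := ML (S : Subgroup G) Y L ⊓ Chain.pre hN N with hN'
  have h1 : N' ≤ centralizer (VL (S : Subgroup G) Y L : Set G) := by
    refine red_grp h hc hK hpar inf_le_left ?_ ?_
    · exact le_normalizer_inf Subgroup.le_normalizer (Chain.le_normalizer_pre hN hM hNn)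
    · rintro x ⟨hxM, hxN⟩
      obtain ⟨hxH, hxN'⟩ := (Chain.mem_pre hN).1 hxN
      obtain ⟨j, hj⟩ := h2 _ hxN'
      refine ⟨j, ?_⟩
      rw [mem_centralizer_iff]
      intro w hw
      have h3 := hj (mk hU (hVU hw)) hw
      rw [← map_pow] at h3
      exact ((pr_smul_eq_iff' hN).1 h3).symm
  obtain ⟨a, ha, rfl⟩ := mem_im.1 (hNM hn)
  refine (pr_smul_eq_iff' hN).2 ?_
  exact mem_centralizer_iff.1 (h1 ⟨ha, (Chain.mem_pre hN).2 ⟨hM ha, hn⟩⟩) _ hv |>.symm

end Cfsg.Agent.Omega.NO3b.Seed
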