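import Cfsg.Agent.Omega.NO3b.Seed.Gam
import Cfsg.Agent.Omega.NO3b.BetaTwo.FamAdm
import Cfsg.Agent.Omega.NO3b.Exit.TightBlkMX
import Cfsg.Agent.Omega.NO3b.Exit.BlkHX

/-!
# The chain with a seed `Y`: (γ) over any local `J` (#20856 (2), #21336)

`B` admissible (`Adm S Y L B`), `V = VB Y B = ⟨Y^{N_G(B)}⟩`, `J ≥ N_G(B)`, `Y ≤ Ω₁(Z(O₂(J)))`, `U = ⟨Y^J⟩ = cl Y J`,
`(F, T, X)` a panel of `V`, `X ≤ J`.

* `blkMX` : `MX` gives `Blk0`;
* `Adm.sitJ` : the panel acts on `U`; `Adm.mxJ` : the M-side frame `MX` for the images of `N_G(B)`, `X`, `B`, `A` on `U`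
  for every line `x V` moved by the optimal offender `A ≤ B` of `U`, `A ≰ O₂(X)`; `Adm.blkJ` : the blocks;
* `Adm.exists_optJ` : `J = ⟨N_G(B), X i⟩`, `U` FF: an optimal offender `A ≤ B` of `U`, `A ≰ O₂(X i)` for some `i`;
* `Adm.exists_blkJ` : so some panel of the family has its blocks in `U`.
-/

set_option autoImplicit false
set_option linter.unusedSectionVars false

namespace Cfsg.Agent.Omega.NO3b.Seed

open Subgroup Cfsg
open Cfsg.Agent.ZN (o2 zc zl jj zj)
open Cfsg.Agent.ZN.ChoiceBase hiding mem_zc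
open Cfsg.Agent.ZN.ChoiceSit (Syl o2_le_syl syl_not_dvd)
open Cfsg.Agent.MinSimple.EmptyTI (syl_of_le)
open Cfsg.Agent.Omega.MinPar (IsParS IsLoc)
open Cfsg.Agent.Omega.NO3b.EZero (NotFF Par cl le_cl cj_le_cl cl_le le_normalizer_cl)
open Cfsg.Agent.Omega.NO3b.Alpha (Fl)
open Cfsg.Agent.Omega.NO3b.NoEmp (Lines)
open Cfsg.Agent.Omega.NOThreeL.Star (Opt exists_opt)
open Cfsg.Agent.Omega.NO3b.Wc (WC StmtOff cj_sSup)
open Cfsg.Agent.Omega.NO3b.Exit (MaxBad WW_cj WW_pgroup wc_S_le frattini offM_of_opt offM_of_max pan char2_of_loc)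
open Cfsg.Agent.Omega.NO3b.Exit.Bridge
open Cfsg.Agent.Omega.NO3b.Exit (LocBar.im_mono LocBar.im_smul LocBar.im_conj LocBar.im_fix LocBar.isPGroup_im
  LocBar.syl_im LocBar.pr_mem_im)
open Cfsg.Agent.Omega.NO3b.Exit.TDat (MX Red mx_of_tight sbc FFq ncl KV)
open Cfsg.Agent.Omega.NO3b.Exit.BlkZ (Blk0)
open Cfsg.Agent.Omega.NO3b.Exit.TBlk (sn_sbc_of_le)
open Cfsg.Agent.Omega.NO3b.BetaTwo (JB NB_le_JB X_le_JB)
open Cfsg.Agent.Omega.NO3b.K0.Mix (Pan)
open Cfsg.Agent.Omega.FFBr (XX pr im mem_im)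
open Cfsg.Agent.Omega.FF.Basic (fx)
open Cfsg.Agent.Omega.NO3b.Exit.TT (nf)
open Cfsg.Agent.MinSimple.VModule (le_normalizer_o2 o2_le oddGen le_o2 mem_normalizer_of_map_le)
open scoped Pointwise

universe u v

/-- The plug `MX → Blk0`. -/
theorem blkMX {Γ : Type u} {U : Type v} [Group Γ] [Finite Γ] [AddCommGroup U] [DistribMulAction Γ U]
    {M X D A : Subgroup Γ} {V F : AddSubgroup U} {g : Γ} (h : MX M X D A V F g) {S : Subgroup Γ} (SM : S ≤ M)
    (S2 : IsPGroup 2 S) (syl : ¬ 2 ∣ S.relIndex M) :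
    Blk0 (sbc M (FFq M F)) (FFq M F) (ncl (KV M V h.MV) A) V F (g • V) (fx U A) g⁻¹ M (KV M V h.MV) S where
  dat := h.dat
  KM := fun _ hk => hk.1
  nK := fun _ hm _ hk => h.KV_norm hm hk
  mV := h.MV
  kV := fun _ hk => hk.2
  kB := fun _ hk _ hb => NO3b.Exit.TDat.ncl_conj hk hb
  sn := sn_sbc_of_le MX.FFq_le_M h.sbc_le_KV fun _ hk => hk.1
  SM := SM
  S2 := S2
  syl := syl

variable {G : Type u} [Group G] [Finite G] {S : Sylow 2 G} {Y L B J F T X : Subgroup G}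

namespace Adm

section one

variable (a : Adm S Y L B) (hc : IsCharacteristicTwoType G) (hM : normalizer (B : Set G) ≤ J)
  (hYz : Y ≤ zc (o2 J)) (f : Fl S (VB Y B) F T) (p : Par (VB Y B) F T X) (hX : X ≤ J)

omit [Finite G] in
/-- `V ≤ ⟨Y^J⟩` -/
theorem V_leJ (hM : normalizer (B : Set G) ≤ J) : VB Y B ≤ cl Y J := cl_mono _ hM

include a hc hM hYz f p hX

/-- the panel acts on `⟨Y^J⟩` -/
theorem sitJ : Sit (VB Y B) F T X (cl Y J) :=
  Sit.of_fl hc a.lines f p (cl_cent hYz) (cl_sq hYz) (V_leJ hM) (hX.trans (le_normalizer_cl _ _))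

/-- **the M-side frame for every line moved by `A`** -/
theorem mxJ {A : Subgroup G} (hA : Opt (cl Y J) A) (hAB : A ≤ B) (hAX : ¬ A ≤ o2 X)
    (h2 : K0.Mix.Two (VB Y B) X)
    (hred : Red (im (le_normalizer_cl Y J) (normalizer (B : Set G))) (ad (cl_cent hYz) (VB Y B)))
    {x : ↥(im (le_normalizer_cl Y J) X)}
    (hx : ¬ imx (le_normalizer_cl Y J) X A ≤ nf _ (sm x (ad (cl_cent hYz) (VB Y B)))) :
    MX (im (le_normalizer_cl Y J) (normalizer (B : Set G))) (im (le_normalizer_cl Y J) X)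
      (im (le_normalizer_cl Y J) B) (im (le_normalizer_cl Y J) A)
      (ad (cl_cent hYz) (VB Y B)) (ad (cl_cent hYz) F) (x : XX (le_normalizer_cl Y J)) := by
  have s := a.sitJ hc hM hYz f p hX
  obtain ⟨P, hP⟩ := s.exists_syl (le_normalizer_cl Y J) hX
  have hBT : B ≤ T := by
    have hQ := f.Q0_le
    rwa [a.cs] at hQ
  have hAT : A ≤ T := hAB.trans hBT
  have hAXX : A ≤ X := hAT.trans s.syl.1
  have e : (imx (le_normalizer_cl Y J) X A).map (im (le_normalizer_cl Y J) X).subtype =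
      im (le_normalizer_cl Y J) A := by
    unfold imx
    rw [subgroupOf_map_subtype]
    exact inf_eq_left.2 (LocBar.im_mono _ hAXX)
  have hSM : (S : Subgroup G) ≤ normalizer (B : Set G) := wc_S_le a.wc
  have key := mx_of_tight (faith (hc := s.cm) (le_normalizer_cl Y J))
    (s.datU (le_normalizer_cl Y J) hX hP)
    (s.mbu (le_normalizer_cl Y J) hX hA hAT hAX) (by
      intro h0
      refine s.two_ne hA hAT hAX h2 fun b hb => ?_
      have h1 : phi (le_normalizer_cl Y J) hX ⟨b, hAXX hb.1⟩ ∈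
          imx (le_normalizer_cl Y J) X A ⊓ pCore 2 ↥(im (le_normalizer_cl Y J) X) :=
        ⟨phi_mem_imx _ hX hb.1, (s.mem_core_iff _ hX (hAT hb.1)).2 hb.2⟩
      rw [h0, mem_bot] at h1
      exact (phi_eq_one _ hX).1 h1)
    (M := im (le_normalizer_cl Y J) (normalizer (B : Set G)))
    (D := im (le_normalizer_cl Y J) B)
    (fun m hm v hv => LocBar.im_smul _ (le_normalizer_cl _ _) hm hv)
    (LocBar.im_mono _ (hBT.trans s.syl.1)) (by rw [e]; exact LocBar.im_mono _ hAB)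
    (fun m hm d hd => LocBar.im_conj _ (by rfl) hm hd)
    (fun d hd v hv => LocBar.im_fix _ a.lines.JV hd hv) (by
      rw [← s.core_eq (le_normalizer_cl Y J) hX]
      unfold imx
      rw [subgroupOf_map_subtype]
      refine inf_le_left.trans (LocBar.im_mono _ ?_)
      exact (o2_le_syl s.syl).trans (f.T_le.trans hSM)) hred hx
  rwa [e] at key

/-- the M-side frame for some line -/
theorem exists_mxJ {A : Subgroup G} (hA : Opt (cl Y J) A) (hAB : A ≤ B) (hAX : ¬ A ≤ o2 X)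
    (h2 : K0.Mix.Two (VB Y B) X)
    (hred : Red (im (le_normalizer_cl Y J) (normalizer (B : Set G))) (ad (cl_cent hYz) (VB Y B))) :
    ∃ x : XX (le_normalizer_cl Y J), x ∈ im (le_normalizer_cl Y J) X ∧
      MX (im (le_normalizer_cl Y J) (normalizer (B : Set G))) (im (le_normalizer_cl Y J) X)
        (im (le_normalizer_cl Y J) B) (im (le_normalizer_cl Y J) A)
        (ad (cl_cent hYz) (VB Y B)) (ad (cl_cent hYz) F) x := by
  have s := a.sitJ hc hM hYz f p hX
  have hBT : B ≤ T := by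
    have hQ := f.Q0_le
    rwa [a.cs] at hQ
  obtain ⟨x, hx⟩ := (s.tight (le_normalizer_cl Y J) hX hA (hAB.trans hBT) hAX).ex
  exact ⟨x, x.2, a.mxJ hc hM hYz f p hX hA hAB hAX h2 hred hx⟩

omit hYz f p hX hc in
/-- `|N_G(B) : S|` is odd in the module `⟨Y^J⟩` -/
theorem syl_imJ :
    ¬ 2 ∣ (im (le_normalizer_cl Y J) (S : Subgroup G)).relIndex
      (im (le_normalizer_cl Y J) (normalizer (B : Set G))) :=
  syl_not_dvd (LocBar.syl_im _ (syl_of_le (wc_S_le a.wc)) hM)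

/-- **the blocks of `V` in `⟨Y^J⟩`** -/
theorem blkJ {A : Subgroup G} (hA : Opt (cl Y J) A) (hAB : A ≤ B) (hAX : ¬ A ≤ o2 X)
    (h2 : K0.Mix.Two (VB Y B) X)
    (hred : Red (im (le_normalizer_cl Y J) (normalizer (B : Set G))) (ad (cl_cent hYz) (VB Y B))) :
    ∃ x : XX (le_normalizer_cl Y J), x ∈ im (le_normalizer_cl Y J) X ∧
      ∃ m : MX (im (le_normalizer_cl Y J) (normalizer (B : Set G))) (im (le_normalizer_cl Y J) X)
        (im (le_normalizer_cl Y J) B) (im (le_normalizer_cl Y J) A)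
        (ad (cl_cent hYz) (VB Y B)) (ad (cl_cent hYz) F) x,
      Blk0 (sbc (im (le_normalizer_cl Y J) (normalizer (B : Set G)))
          (FFq (im (le_normalizer_cl Y J) (normalizer (B : Set G))) (ad (cl_cent hYz) F)))
        (FFq (im (le_normalizer_cl Y J) (normalizer (B : Set G))) (ad (cl_cent hYz) F))
        (ncl (KV (im (le_normalizer_cl Y J) (normalizer (B : Set G))) (ad (cl_cent hYz) (VB Y B)) m.MV)
          (im (le_normalizer_cl Y J) A))
        (ad (cl_cent hYz) (VB Y B)) (ad (cl_cent hYz) F) (x • ad (cl_cent hYz) (VB Y B))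
        (fx (MU (cl_cent hYz)) (im (le_normalizer_cl Y J) A)) x⁻¹
        (im (le_normalizer_cl Y J) (normalizer (B : Set G)))
        (KV (im (le_normalizer_cl Y J) (normalizer (B : Set G))) (ad (cl_cent hYz) (VB Y B)) m.MV)
        (im (le_normalizer_cl Y J) (S : Subgroup G)) := by
  obtain ⟨x, hx, m⟩ := a.exists_mxJ hc hM hYz f p hX hA hAB hAX h2 hred
  exact ⟨x, hx, m, blkMX m (LocBar.im_mono _ (wc_S_le a.wc)) (LocBar.isPGroup_im _ S.isPGroup')
    (a.syl_imJ hM)⟩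

end one

/-! ### a family of panels -/

section fam

variable {ι : Type v} {F T X : ι → Subgroup G}

theorem S_leJB (a : Adm S Y L B) : (S : Subgroup G) ≤ JB B X := (wc_S_le a.wc).trans NB_le_JB

/-- **an optimal offender of `⟨Y^J⟩` in `B`, not in `O₂(X i)` for some `i`** -/
theorem exists_optJ (a : Adm S Y L B) (hc : IsCharacteristicTwoType G)
    (f : ∀ i, Fl S (VB Y B) (F i) (T i)) (p : ∀ i, Par (VB Y B) (F i) (T i) (X i))
    (hYz : Y ≤ zc (o2 (JB B X))) (hff : ¬ NotFF (cl Y (JB B X))) :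
    ∃ A : Subgroup G, Opt (cl Y (JB B X)) A ∧ A ≤ B ∧ ∃ i, ¬ A ≤ o2 (X i) := by
  set V := VB Y B with hVd
  set J := JB B X with hJ
  have l := a.lines
  have hMJ : normalizer (B : Set G) ≤ J := NB_le_JB
  have hXJ : ∀ i, X i ≤ J := X_le_JB
  have hSJ : (S : Subgroup G) ≤ J := a.S_leJB
  have pn : ∀ i, Pan V (F i) (T i) (X i) (normalizer (B : Set G)) B := fun i => by
    have h1 := pan (f i) l (p i) fun g hg => Alpha.ti hc l g hg
    rwa [a.cs] at h1
  have hBT : ∀ i, B ≤ T i := fun i => by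
    have hQ := (f i).Q0_le
    rwa [a.cs] at hQ
  have hVc := cl_cent hYz
  have hVJ : V ≤ cl Y J := V_leJ hMJ
  have hUH : ∀ i, cl V (X i) ≤ cl Y J := fun i => cl_le' hVJ ((hXJ i).trans (le_normalizer_cl _ _))
  -- best offenders centralise `V`
  have hAV : ∀ A, Opt (cl Y J) A → A ≤ (S : Subgroup G) → A ≤ B := by
    intro A hA hAS
    refine le_trans (le_inf hAS ?_) a.cs.le
    by_contra hne
    have hoff := offM_of_opt hA hVc hVJ hne
    have h3 := a.nff A hA.pg (hAS.trans a.lines.S_le) hoff.sq hoff.comm hne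
    exact absurd (FFThm.relIndex_le_iff.1 hoff.le) (not_le.2 h3)
  have hQB : (S : Subgroup G) ⊓ centralizer (cl Y J : Set G) ≤ B :=
    (inf_le_inf_left _ (centralizer_le hVJ)).trans a.cs.le
  obtain ⟨A0, hA0⟩ := exists_opt hff
  obtain ⟨n, hn, hnS⟩ := FFThm.exists_conj_le S (hSJ.trans (le_normalizer_cl _ _)) hA0.pg hA0.norm
  set Fam : Set (Subgroup G) := {D | D = (S : Subgroup G) ⊓ centralizer (cl Y J : Set G) ∨
      Opt (cl Y J) D ∧ D ≤ (S : Subgroup G)} with hFam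
  have hFamB : ∀ D ∈ Fam, D ≤ B := by
    rintro D (rfl | ⟨h1, h2⟩)
    · exact hQB
    · exact hAV D h1 h2
  have hcl : ∀ g ∈ J, (∀ D ∈ Fam, cj g D ≤ (S : Subgroup G)) → ∀ D ∈ Fam, cj g D ≤ sSup Fam := by
    rintro g hg hgS D (rfl | ⟨h1, h2⟩)
    · refine le_trans (le_inf (hgS _ (Or.inl rfl)) ?_) (le_sSup (Or.inl rfl))
      rw [cj_inf, cj_centralizer, cj_eq_of_mem_normalizer (le_normalizer_cl _ _ hg)]
      exact inf_le_right
    · exact le_sSup (a := cj g D) (Or.inr ⟨h1.cj (le_normalizer_cl _ _ hg), hgS D (Or.inr ⟨h1, h2⟩)⟩)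
  have hex : ∃ i, ∃ D ∈ Fam, ¬ D ≤ o2 (X i) := by
    by_contra hcon
    push Not at hcon
    have hKB : sSup Fam ≤ B := sSup_le hFamB
    have hKS : sSup Fam ≤ (S : Subgroup G) := hKB.trans a.wc.le
    have hcl' : ∀ g ∈ J, cj g (sSup Fam) ≤ (S : Subgroup G) → cj g (sSup Fam) ≤ sSup Fam := by
      intro g hg hgS
      rw [cj_sSup]
      exact iSup_le fun D => hcl g hg (fun D hD => (cj_mono g (le_sSup hD)).trans hgS) D D.2
    have hcore : sSup Fam ≤ o2 J := by
      refine le_o2 (hKS.trans hSJ) (S.isPGroup'.to_le hKS) (sup_le ?_ (iSup_le fun i => ?_))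
      · intro m hm
        refine mem_normalizer_of_map_le (hcl' m (hMJ hm) ?_)
        have h1 := cj_mono m hKB
        rw [cj_eq_of_mem_normalizer hm] at h1
        exact h1.trans a.wc.le
      · intro x hx
        refine mem_normalizer_of_map_le (hcl' x (hXJ i hx) ?_)
        have h1 := cj_mono x (sSup_le (hcon i) : sSup Fam ≤ o2 (X i))
        rw [cj_eq_of_mem_normalizer (le_normalizer_o2 _ hx)] at h1
        exact h1.trans ((o2_le_syl ((f i).sylX (p i))).trans (f i).T_le)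
    exact (hA0.cj hn).ne (((le_sSup (a := cj n A0) (Or.inr ⟨hA0.cj hn, hnS⟩)).trans hcore).trans
      (o2_cent hYz))
  obtain ⟨i, D, hD, hDX⟩ := hex
  rcases hD with rfl | ⟨h1, h2⟩
  · exact absurd ((pn i).le_o2_of_cent_U (S.isPGroup'.to_le (hQB.trans a.wc.le))
      ((hQB.trans (hBT i)).trans (p i).T_le) (inf_le_right.trans (centralizer_le (hUH i)))) hDX
  · exact ⟨D, h1, hAV D h1 h2, i, hDX⟩

end fam

end Adm

end Cfsg.Agent.Omega.NO3b.Seed
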