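import Cfsg.Agent.Omega.NO3b.Seed.Red
import Cfsg.Agent.Omega.NO3b.Seed.BetaTwo
import Cfsg.Agent.Omega.NO3b.Base.MoveCent

/-!
# The maximal admissible frame with a seed `Y` (`BasePt/LocStage.lean` for the seeded chain)

* `LocY S Y M B` : `B` is admissible (`Adm S Y M B`), `|VB Y B|` is maximal, `M ≤ N_G(B)`, `Seed S Y (N_G(B))`;
  `exists_locY`;
* `LocY.stage` : `Stage S Y L` for `L = N_G(B)`; `WH_eq`, `ML_eq`, `VL_eq` : `WH S Y L = B`, `ML S Y L = L`,
  `VL S Y L = VB Y B`;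
* `LocY.no_step` : there is no step of the chain from `L`;
* `LocY.last_ff` : `V_H = ⟨Y^H⟩` is FF for every panel, `H = ⟨L, X⟩`;
* `LocY.oz` : `Base.OZ S Y B (VB Y B)`;
* `LocY.min`, `LocY.loc`, `LocY.fr`, `LocY.two`, `LocY.ff` : `B` is minimal; for a panel over `Z`: `H` is local, the
  frame `Fr`, two noncentral factors, `V_H` is FF;
* `LocY.le_normalizer_of_stage` : `Stage S Y J`, `L ≤ J` imply `J ≤ N_G(V)`;
* `LocY.red` : `O₂(L / C_L(V)) = 1`;
-/

set_option autoImplicit false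
set_option linter.unusedSectionVars false

namespace Cfsg.Agent.Omega.NO3b.Seed

open Subgroup Cfsg
open Cfsg.Agent.ZN (o2 zc zl jj zj)
open Cfsg.Agent.ZN.ChoiceBase hiding mem_zc
open Cfsg.Agent.Omega.MinPar Cfsg.Agent.Omega.Frame Cfsg.Agent.Omega.FrameNOFF
open Cfsg.Agent.Omega.NO3b.EZero (NotFF Par cl le_cl cj_le_cl cl_le le_normalizer_cl)
open Cfsg.Agent.Omega.NO3b.Alpha (Fl)
open Cfsg.Agent.Omega.NO3b.NoEmp (Lines)
open Cfsg.Agent.Omega.NO3b.Wc (WC StmtOff)
open Cfsg.Agent.Omega.NO3b.Exit (wc_S_le)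
open Cfsg.Agent.Omega.NO3b.Exit.TDat (Red)
open Cfsg.Agent.Omega.NO3b.Exit.Bridge
open Cfsg.Agent.Omega.FFBr (XX pr im mem_im)
open Cfsg.Agent.Omega.NO3b.Base (OZ PanZ)

universe u

variable {G : Type u} [Group G] [Finite G]

/-- **The maximal admissible frame.** -/
structure LocY (S : Sylow 2 G) (Y M B : Subgroup G) : Prop where
  adm : Adm S Y M B
  max : ∀ B' : Subgroup G, Adm S Y M B' → Nat.card (VB Y B') ≤ Nat.card (VB Y B)
  le : M ≤ normalizer (B : Set G)
  seed : Seed S Y (normalizer (B : Set G))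

variable {S : Sylow 2 G} {Y M B : Subgroup G}

/-- `L` normalises every weakly closed subgroup of `S` in `C_S(⟨Y^L⟩)`. -/
theorem L_le_norm {L : Subgroup G} (h : Root S Y L) (hB : WC (S : Subgroup G) B)
    (hle : B ≤ QL (S : Subgroup G) Y L) : L ≤ normalizer (B : Set G) := by
  intro l hl
  rw [mem_normalizer_iff_cj]
  refine hB.eq l ?_
  have h1 := cj_mono l hle
  have h2 : cj l (QL (S : Subgroup G) Y L) = QL (S : Subgroup G) Y L := cj_eq_of_mem_normalizer (h.cs hl)
  rw [h2] at h1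
  exact h1.trans inf_le_left

/-- **The frame exists.** -/
theorem exists_locY (hG : IsCharacteristicTwoType G) (hne : zc (S : Subgroup G) ≠ ⊥) (h : Stage S Y M)
    (hsd : Seed S Y M) : ∃ B, LocY S Y M B := by
  obtain ⟨B, a, hmax⟩ := Set.exists_max_image {B : Subgroup G | Adm S Y M B}
    (fun B => Nat.card (VB Y B)) (Set.toFinite _) ⟨_, h.adm hG hne⟩
  have hle := L_le_norm h.toRoot a.wc a.le
  exact ⟨B, a, fun B' a' => hmax B' a', hle, hsd.mono hle⟩

namespace LocY

/-- **The frame is a member of the chain.** -/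
theorem stage (g : LocY S Y M B) : Stage S Y (normalizer (B : Set G)) where
  le := wc_S_le g.adm.wc
  ZY := g.adm.ZY
  comm := g.adm.comm
  sq := g.adm.sq
  nff := g.adm.nff
  cs := by
    have h := g.adm.cs
    rw [VB] at h
    rw [h]
  low := g.adm.low

theorem QL_eq (g : LocY S Y M B) : QL (S : Subgroup G) Y (normalizer (B : Set G)) = B := g.adm.cs

/-- `WH S Y L = B` -/
theorem WH_eq (g : LocY S Y M B) : WH (S : Subgroup G) Y (normalizer (B : Set G)) = B :=
  le_antisymm ((WH_le _ _ _).trans g.QL_eq.le) (le_WH g.adm.wc g.QL_eq.ge)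

/-- `ML S Y L = L` -/
theorem ML_eq (g : LocY S Y M B) : ML (S : Subgroup G) Y (normalizer (B : Set G)) = normalizer (B : Set G) := by
  rw [ML, g.WH_eq]

/-- `VL S Y L = V` -/
theorem VL_eq (g : LocY S Y M B) : VL (S : Subgroup G) Y (normalizer (B : Set G)) = VB Y B := by
  rw [VL, g.ML_eq, VB]

/-- `nx S Y L X = ⟨L, X⟩` -/
theorem nx_eq (g : LocY S Y M B) (X : Subgroup G) :
    nx (S : Subgroup G) Y (normalizer (B : Set G)) X = normalizer (B : Set G) ⊔ X := by
  rw [nx, g.ML_eq]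

/-- A root `L' ≥ M` with `V(L')` low is admissible. -/
theorem adm_of_root {L : Subgroup G} (h : Root S Y L) (hML : M ≤ L)
    (low : VL (S : Subgroup G) Y L ≤ o2 (centralizer (zc (S : Subgroup G) : Set G))) :
    Adm S Y M (WH (S : Subgroup G) Y L) where
  ZY := h.ZY
  wc := wc_WH _ _ _
  le := (WH_le _ _ _).trans (inf_le_inf_left _ (centralizer_le (cl_mono _ hML)))
  cs := h.cs_V
  comm := h.V_comm
  sq := h.V_sq
  nff := h.V_nff
  low := low

/-- **Maximality of `|V|`.** -/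
theorem le_of_root (g : LocY S Y M B) {L : Subgroup G} (h : Root S Y L) (hML : M ≤ L)
    (low : VL (S : Subgroup G) Y L ≤ o2 (centralizer (zc (S : Subgroup G) : Set G))) :
    Nat.card (VL (S : Subgroup G) Y L) ≤ Nat.card (VB Y B) :=
  g.max _ (adm_of_root h hML low)

/-- Maximality of `V`. -/
theorem VL_eq_of_root (g : LocY S Y M B) {L : Subgroup G} (h : Root S Y L) (hML : M ≤ L)
    (low : VL (S : Subgroup G) Y L ≤ o2 (centralizer (zc (S : Subgroup G) : Set G)))
    (hV : VB Y B ≤ VL (S : Subgroup G) Y L) : VL (S : Subgroup G) Y L = VB Y B :=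
  (eq_of_le_of_card_ge hV (g.le_of_root h hML low)).symm

theorem lines (g : LocY S Y M B) : Lines S B (VB Y B) := g.adm.lines

/-- **There is no step from `L`.** -/
theorem no_step (g : LocY S Y M B) (hG : IsCharacteristicTwoType G) (hne : zc (S : Subgroup G) ≠ ⊥)
    (F T X : Subgroup G) : ¬ Step S Y (normalizer (B : Set G)) F T X := by
  intro s
  have h1 : Stage S Y (nx (S : Subgroup G) Y (normalizer (B : Set G)) X) :=
    s.next g.stage.toRoot (g.stage.lines hG hne)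
  have h2 := s.lt h1.toRoot
  have h3 : M ≤ nx (S : Subgroup G) Y (normalizer (B : Set G)) X := by
    refine le_trans ?_ le_sup_left
    rw [g.ML_eq]
    exact g.le
  have h4 := g.le_of_root h1.toRoot h3 (h1.low_V hG hne)
  rw [g.VL_eq] at h2
  exact h2.ne (eq_of_le_of_card_ge h2.le h4)

/-- **LEMMA OZ**'s frame -/
theorem oz (g : LocY S Y M B) : OZ S Y B (VB Y B) where
  lines := g.adm.lines
  cs := g.adm.cs
  eq := rfl
  zZ := g.adm.ZY
  max := fun B' hle hwc hcs hcm hsq hnf hlow hV => by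
    have a : Adm S Y M B' := ⟨g.adm.ZY, hwc, hle.trans g.adm.le, hcs, hcm, hsq, hnf, hlow⟩
    exact (eq_of_le_of_card_ge hV (g.max B' a)).ge

/-- **Maximality for a group `J ≥ L`** with `C_S(V_J)` normal in `J`: if `V_J = ⟨Y^J⟩` is not FF and
`V_J ≤ O₂(C_G(Z))` then `J ≤ N_G(V)`. -/
theorem le_normalizer_of_stage (g : LocY S Y M B) (hG : IsCharacteristicTwoType G)
    (hne : zc (S : Subgroup G) ≠ ⊥) {J : Subgroup G} (hJ : Stage S Y J)
    (hLJ : normalizer (B : Set G) ≤ J) : J ≤ normalizer (VB Y B : Set G) := by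
  have hV : VB Y B ≤ VL (S : Subgroup G) Y J := (cl_mono Y hLJ).trans hJ.cl_le_V
  have h1 := g.VL_eq_of_root hJ.toRoot (g.le.trans hLJ) (hJ.low_V hG hne) hV
  rw [← h1]
  exact hJ.L_le.trans (ML_le_norm_V _ _ _)

/-- `⟨L, C_G(Z)⟩` is nonlocal. -/
theorem nonLoc (g : LocY S Y M B) (hn : NonLoc M (CZ (S : Subgroup G))) :
    NonLoc (normalizer (B : Set G)) (CZ (S : Subgroup G)) :=
  fun U hU h1 h2 => hn U hU (g.le.trans h1) h2

/-- `C_G(Z)` does not normalise `V`. -/
theorem nz (g : LocY S Y M B) (hne : zc (S : Subgroup G) ≠ ⊥) (hn : NonLoc M (CZ (S : Subgroup G))) :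
    ¬ centralizer (zc (S : Subgroup G) : Set G) ≤ normalizer (VB Y B : Set G) := by
  have h1 := Root.nle g.stage.toRoot g.le hn hne
  rwa [g.VL_eq] at h1

/-- The panels exist. -/
theorem exists_panel (g : LocY S Y M B) (hG : IsCharacteristicTwoType G) (hne : zc (S : Subgroup G) ≠ ⊥)
    (hn : NonLoc M (CZ (S : Subgroup G))) :
    ∃ F T X, Fl S (VB Y B) F T ∧ zc (S : Subgroup G) ≤ F ∧ Par (VB Y B) F T X := by
  have h1 := g.stage.exists_panel hG hne (Root.nle g.stage.toRoot g.le hn hne)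
  rwa [g.VL_eq] at h1

/-- At a panel `V_H` is FF or not in `O₂(C_G(Z))`. -/
theorem or_of_panel (g : LocY S Y M B) (hG : IsCharacteristicTwoType G) (hne : zc (S : Subgroup G) ≠ ⊥)
    {F T X : Subgroup G} (f : Fl S (VL (S : Subgroup G) Y (normalizer (B : Set G))) F T)
    (hZ : zc (S : Subgroup G) ≤ F) (p : Par (VL (S : Subgroup G) Y (normalizer (B : Set G))) F T X) :
    ¬ NotFF (cl Y (nx (S : Subgroup G) Y (normalizer (B : Set G)) X)) ∨
      ¬ cl Y (nx (S : Subgroup G) Y (normalizer (B : Set G)) X) ≤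
        o2 (centralizer (zc (S : Subgroup G) : Set G)) :=
  last_or hG hne g.seed g.stage (g.no_step hG hne) f hZ p

/-- **`V_H` is FF for every panel.** -/
theorem last_ff (g : LocY S Y M B) (hG : IsCharacteristicTwoType G) (hne : zc (S : Subgroup G) ≠ ⊥)
    {F T X : Subgroup G} (f : Fl S (VL (S : Subgroup G) Y (normalizer (B : Set G))) F T)
    (hZ : zc (S : Subgroup G) ≤ F) (p : Par (VL (S : Subgroup G) Y (normalizer (B : Set G))) F T X) :
    ¬ NotFF (cl Y (nx (S : Subgroup G) Y (normalizer (B : Set G)) X)) :=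
  Seed.last_ff g.stage g.seed hG hne f hZ p (g.or_of_panel hG hne f hZ p)

/-- `B` is minimal admissible. -/
theorem min (g : LocY S Y M B) (B' : Subgroup G) (a' : Adm S Y M B') (hle : B' ≤ B) : B' = B := by
  have h1 : normalizer (B : Set G) ≤ normalizer (B' : Set G) := by
    intro x hx
    rw [mem_normalizer_iff_cj]
    refine a'.wc.eq x ?_
    have h2 := cj_mono x hle
    rw [cj_eq_of_mem_normalizer hx] at h2
    exact h2.trans g.adm.wc.le
  have h2 : VB Y B = VB Y B' := eq_of_le_of_card_ge (cl_mono _ h1) (g.max B' a')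
  rw [← a'.cs, ← g.adm.cs, h2]

/-- Every panel is local. -/
theorem loc (g : LocY S Y M B) (hG : IsCharacteristicTwoType G) {F T X : Subgroup G} (f : Fl S (VB Y B) F T)
    (hZ : zc (S : Subgroup G) ≤ F) (p : Par (VB Y B) F T X) :
    ∃ R : Subgroup G, R ≠ ⊥ ∧ IsPGroup 2 R ∧ normalizer (B : Set G) ⊔ X ≤ normalizer (R : Set G) := by
  obtain ⟨R, h1, h2, h3, h4⟩ := NO3b.AlphaEnd.exists_loc f g.adm.lines FFBr.aStmt FFBr.ffthm hG hZ p
  rw [g.adm.cs] at h3
  exact ⟨R, h1, h2, sup_le h3 h4⟩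

/-- The frame `Fr` for a panel. -/
theorem fr (g : LocY S Y M B) (hG : IsCharacteristicTwoType G) (hne : zc (S : Subgroup G) ≠ ⊥)
    {F T X : Subgroup G} (f : Fl S (VB Y B) F T) (hZ : zc (S : Subgroup G) ≤ F) (p : Par (VB Y B) F T X) :
    Fr S Y B (normalizer (B : Set G) ⊔ X) X T := by
  rw [← g.VL_eq] at f p
  have h1 := g.stage.fr g.seed hG hne f hZ p
  rwa [g.WH_eq, g.nx_eq] at h1

/-- **(C2)**: two noncentral chief factors of `X` in `⟨V^X⟩`. -/
theorem two (g : LocY S Y M B) (hG : IsCharacteristicTwoType G) (hne : zc (S : Subgroup G) ≠ ⊥)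
    {F T X : Subgroup G} (f : Fl S (VB Y B) F T) (hZ : zc (S : Subgroup G) ≤ F) (p : Par (VB Y B) F T X) :
    K0.Mix.Two (VB Y B) X := by
  rw [← g.VL_eq] at f p ⊢
  exact g.stage.two g.seed hG hne f hZ p (g.or_of_panel hG hne f hZ p)

/-- **`V_H` is FF**, `H = ⟨N_G(B), X⟩`. -/
theorem ff (g : LocY S Y M B) (hG : IsCharacteristicTwoType G) (hne : zc (S : Subgroup G) ≠ ⊥)
    {F T X : Subgroup G} (f : Fl S (VB Y B) F T) (hZ : zc (S : Subgroup G) ≤ F) (p : Par (VB Y B) F T X) :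
    ¬ NotFF (cl Y (normalizer (B : Set G) ⊔ X)) := by
  rw [← g.VL_eq] at f p
  have h1 := g.last_ff hG hne f hZ p
  rwa [g.nx_eq] at h1

/-- **(RED)** -/
theorem red (g : LocY S Y M B) {U H : Subgroup G} (hN : H ≤ normalizer (U : Set G))
    (hU : U ≤ centralizer (U : Set G)) (hG : IsCharacteristicTwoType G) (hK : Core (S : Subgroup G) Y)
    (hpar : ∀ R, IsParS (S : Subgroup G) R → R ≤ M) (hM : normalizer (B : Set G) ≤ H) (hVU : VB Y B ≤ U) :
    Red (im hN (normalizer (B : Set G))) (ad hU (VB Y B)) := by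
  have h1 := Seed.red hN hU g.stage.toRoot hG hK (fun R hR => by rw [g.ML_eq]; exact (hpar R hR).trans g.le)
    (by rw [g.ML_eq]; exact hM) (by rw [g.VL_eq]; exact hVU)
  rwa [g.ML_eq, g.VL_eq] at h1

end LocY

end Cfsg.Agent.Omega.NO3b.Seed
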