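import Cfsg.Agent.Omega.NO3b.Seed.FamBeta
import Cfsg.Agent.Omega.NO3b.Seed.Max

/-!
# Families of panels at the maximal admissible frame with a seed `Y` (`BetaTwo/LocG.lean`)

`LocY S Y M B`, `V = VB Y B`, `(F i, T i, X i)` a nonempty family of panels of `V` over `Z`, `J = JB B X =
⟨N_G(B), X i⟩`:

* `LocY.loc_fam`, `LocY.isLoc_fam` : `J` is 2-local; `LocY.Yz_fam` : `Y ≤ Ω₁(Z(O₂(J)))`;
* `LocY.gam_fam` : `⟨Y^J⟩` is FF.
-/

set_option autoImplicit false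
set_option linter.unusedSectionVars false

namespace Cfsg.Agent.Omega.NO3b.Seed

open Subgroup Cfsg
open Cfsg.Agent.ZN (o2 zc zl)
open Cfsg.Agent.Omega.MinPar (IsLoc)
open Cfsg.Agent.Omega.NO3b.EZero (NotFF Par cl)
open Cfsg.Agent.Omega.NO3b.Alpha (Fl)
open Cfsg.Agent.Omega.NO3b.BetaTwo (JB NB_le_JB X_le_JB)

universe u v

namespace LocY

variable {G : Type u} [Group G] [Finite G] {S : Sylow 2 G} {Y M B : Subgroup G}

/-- `Y ≤ Ω₁(Z(O₂(J)))` for every local `J ≥ N_G(B)`. -/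
theorem Yz (g : LocY S Y M B) {J : Subgroup G} (hJ : normalizer (B : Set G) ≤ J)
    (hloc : ∃ R : Subgroup G, R ≠ ⊥ ∧ IsPGroup 2 R ∧ J ≤ normalizer (R : Set G)) : Y ≤ zc (o2 J) := by
  obtain ⟨R, hR, hR2, hJR⟩ := hloc
  exact g.seed.le _ (MinPar.isLoc_of_le_normalizer S (g.stage.le.trans hJ) hR2 hR hJR) hJ

variable {ι : Type v} [Nonempty ι] (g : LocY S Y M B) (hG : IsCharacteristicTwoType G)
  (hne : zc (S : Subgroup G) ≠ ⊥) (F T X : ι → Subgroup G)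
  (f : ∀ i, Fl S (VB Y B) (F i) (T i)) (hZ : ∀ i, zc (S : Subgroup G) ≤ F i)
  (p : ∀ i, Par (VB Y B) (F i) (T i) (X i))
include g hG hne f hZ p

/-- every family of panels over `Z` is local -/
theorem loc_fam : ∃ R : Subgroup G, R ≠ ⊥ ∧ IsPGroup 2 R ∧ JB B X ≤ normalizer (R : Set G) :=
  Seed.loc_fam g.adm hG f p fun i => g.two hG hne (f i) (hZ i) (p i)

theorem isLoc_fam : IsLoc (S : Subgroup G) (JB B X) := by
  obtain ⟨R, hR, hR2, hJR⟩ := g.loc_fam hG hne F T X f hZ p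
  exact MinPar.isLoc_of_le_normalizer S (S_le_JB g.adm) hR2 hR hJR

theorem Yz_fam : Y ≤ zc (o2 (JB B X)) := g.Yz NB_le_JB (g.loc_fam hG hne F T X f hZ p)

/-- **every family of panels over `Z` has `⟨Y^J⟩` FF** -/
theorem gam_fam : ¬ NotFF (cl Y (JB B X)) :=
  ff_adm g.adm hG f p (g.Yz_fam hG hne F T X f hZ p) (g.loc_fam hG hne F T X f hZ p)
    (fun i => g.two hG hne (f i) (hZ i) (p i)) (S_ne hne) g.min

end LocY

end Cfsg.Agent.Omega.NO3b.Seed
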