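import Cfsg.Agent.Omega.NO3b.Seed.Max
import Cfsg.Agent.Omega.NO3b.Seed.PanJ
import Cfsg.Agent.Omega.NO3b.Exit.AllLocal

/-!
# The panels of the maximal frame `LocY` as a system `PanSys`

`g : LocY S Y M B`, `V = VB Y B`, `(F i, T i, X i)` panels of `V` over `Z`, `J = JB B X = ⟨N_G(B), X i⟩`:

* `LocY.sys_loc` : `J` is 2-local; `LocY.sys_isLoc`, `LocY.sys_Y_le` : `Y ≤ Ω₁(Z(O₂(J)))`; `LocY.sys_Y_le_pair`;
* `LocY.sys_pan` : the panels form a `PanSys` if `⟨Y^J⟩` is FF for all pairs.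
-/

set_option autoImplicit false
set_option linter.unusedSectionVars false

namespace Cfsg.Agent.Omega.NO3b.Seed

open Subgroup Cfsg
open Cfsg.Agent.ZN (o2 zc zl jj zj)
open Cfsg.Agent.ZN.ChoiceBase hiding mem_zc
open Cfsg.Agent.Omega.MinPar Cfsg.Agent.Omega.Frame Cfsg.Agent.Omega.FrameNOFF
open Cfsg.Agent.Omega.NO3b.EZero (NotFF Par cl le_cl cj_le_cl cl_le le_normalizer_cl)
open Cfsg.Agent.Omega.NO3b.Alpha (Fl)
open Cfsg.Agent.Omega.NO3b.Exit (wc_S_le)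
open Cfsg.Agent.Omega.NO3b.Exit.TDat (Red)
open Cfsg.Agent.Omega.NO3b.Exit.Bridge
open Cfsg.Agent.Omega.NO3b.BetaTwo (JB)
open Cfsg.Agent.Omega.NO3b.BasePt (PanSys)
open Cfsg.Agent.Omega.FFBr (XX im)

universe u v

variable {G : Type u} [Group G] [Finite G] {S : Sylow 2 G} {Y M B : Subgroup G}

namespace LocY

section fam

variable (g : LocY S Y M B) (hG : IsCharacteristicTwoType G) (hne : zc (S : Subgroup G) ≠ ⊥)
  {ι : Type v} {F T X : ι → Subgroup G}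
  (f : ∀ i, Fl S (VB Y B) (F i) (T i)) (hZ : ∀ i, zc (S : Subgroup G) ≤ F i)
  (p : ∀ i, Par (VB Y B) (F i) (T i) (X i))
include g hG hne f hZ p

/-- **`J = ⟨N_G(B), X i⟩` is 2-local** -/
theorem sys_loc [Nonempty ι] :
    ∃ R : Subgroup G, R ≠ ⊥ ∧ IsPGroup 2 R ∧ JB B X ≤ normalizer (R : Set G) := by
  have h2 : ∀ i, K0.Mix.Two (VB Y B) (X i) := fun i => g.two hG hne (f i) (hZ i) (p i)
  obtain ⟨R, hR, hR2, h3, h4⟩ := NO3b.Exit.exists_loc_fam FFBr.aStmt hG g.adm.lines F T X f p h2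
  rw [g.adm.cs] at h3
  exact ⟨R, hR, hR2, sup_le h3 (iSup_le h4)⟩

theorem sys_isLoc [Nonempty ι] : IsLoc (S : Subgroup G) (JB B X) := by
  obtain ⟨R, hR, hR2, h1⟩ := g.sys_loc hG hne f hZ p
  exact isLoc_of_le_normalizer S ((wc_S_le g.adm.wc).trans BetaTwo.NB_le_JB) hR2 hR h1

/-- `Y ≤ Ω₁(Z(O₂(J)))` -/
theorem sys_Y_le [Nonempty ι] : Y ≤ zc (o2 (JB B X)) :=
  g.seed.le _ (g.sys_isLoc hG hne f hZ p) BetaTwo.NB_le_JB

/-- `Y ≤ Ω₁(Z(O₂(J)))` for two panels -/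
theorem sys_Y_le_pair (i j : ι) : Y ≤ zc (o2 (normalizer (B : Set G) ⊔ (X i ⊔ X j))) := by
  have h1 := g.sys_Y_le hG hne (ι := Bool) (F := fun b => if b then F i else F j)
    (T := fun b => if b then T i else T j) (X := fun b => if b then X i else X j)
    (by rintro (_ | _); exacts [f j, f i]) (by rintro (_ | _); exacts [hZ j, hZ i])
    (by rintro (_ | _); exacts [p j, p i])
  have e : JB B (fun b : Bool => if b then X i else X j) = normalizer (B : Set G) ⊔ (X i ⊔ X j) := by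
    rw [JB, iSup_bool_eq]
    rfl
  rwa [e] at h1

/-- **the panels of `V` form a system** -/
theorem sys_pan (hK : Core (S : Subgroup G) Y) (hpar : ∀ R, IsParS (S : Subgroup G) R → R ≤ M)
    (hff : ∀ i j, ¬ NotFF (cl Y (normalizer (B : Set G) ⊔ (X i ⊔ X j)))) :
    PanSys (S : Subgroup G) (VB Y B) (normalizer (B : Set G)) F
      (fun i => cl Y (normalizer (B : Set G) ⊔ X i)) (fun i => normalizer (B : Set G) ⊔ X i) :=
  g.adm.panSys hG f p (fun i => g.two hG hne (f i) (hZ i) (p i)) (g.sys_Y_le_pair hG hne f hZ p) hff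
    fun hH hU hM hVU => g.red hH hU hG hK hpar hM hVU

end fam

end LocY

end Cfsg.Agent.Omega.NO3b.Seed
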